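import Groth.Agent.KSix.K241.RingBif
import Groth.Agent.KSix.K240.TorTen
import Groth.Agent.KSix.K240.AmpLoc
import Groth.Agent.PerfC.DTens
import Groth.Agent.PerfC.PullKFlat
import Groth.Agent.Dcoh.DerPull
import Groth.Agent.S6953

/-!
# Stalks of `Lf^* G ⊗ᴸ F`

* `nonempty_lten_kflat`: `K ⊗ᴸ N = K ⊗ N` over a ring for `N` K-flat;
* `nonempty_ltensor_lpull`: `Lf^* E ⊗ᴸ F` is computed by `F ⊗ f^* L` for a K-flat resolution `L` of `E`;
* `hasTorAmplitudeD_ltensor_lpull`: stalkwise tor amplitude of `Lf^* G ⊗ᴸ F`;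
* `isZero_HD_ltensor_lpull`: vanishing of the cohomology of `Lf^* N ⊗ᴸ F` for `F` of tor amplitude `[m, n]`.
-/

set_option autoImplicit false
universe u
open CategoryTheory CategoryTheory.Limits MonoidalCategory AlgebraicGeometry
attribute [local instance] HasDerivedCategory.standard

namespace K241.TenPull

open DerivedCategory Groth.Agent Groth.Agent.Dcoh Groth.Agent.PerfB.RingKFlat Groth.Agent.Dcoh.KFlatAbs
open Groth.Agent.Dcoh.Stalk Groth.Agent.PerfB.StalkKFlat K238.StalkD K238.StalkPull K240.TorTen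
open Groth.Agent.PerfC.DBif Groth.Agent.PerfC.DInd

section Ring

variable {R : Type u} [CommRing R]

lemma presQis_flip {N : DRing.Cx R} (hN : KFl (TR R) N) : PresQis ((RingBif.GR R).flip.obj N) where
  quasiIso_map f _ := K226.KFlat.quasiIso_whiskerRight hN f

/-- `K ⊗ᴸ N = K ⊗ N` for `N` K-flat. -/
theorem nonempty_lten_kflat {N : DRing.Cx R} (hN : KFl (TR R) N) [DRing.HasLTensorCx R N]
    (K : DRing.Cx R) :
    Nonempty ((DRing.LTensorCx R N).obj (DRing.toD K) ≅ DRing.toD (K ⊗ N : DRing.Cx R)) := by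
  have := presQis_flip hN
  have h := isIso_β_of_presQis (RingBif.bifData R) N K
  exact ⟨@asIso _ _ _ _ (βapp (RingBif.GR R) N K) h⟩

/-- `S6953` for a ring homomorphism. -/
theorem torAmp_restrict_lten {A B : Type u} [CommRing A] [CommRing B] (φ : A →+* B) (K : Dual.D B)
    (a b c d : ℤ) (hK : DRing.HasTorAmplitudeIn B a b K) (L : DRing.Cx B)
    (hL : DRing.HasTorAmplitudeIn A c d (DRing.toD ((LoccohB.ProjF.resCx φ).obj L)))
    [DRing.HasLTensorCx B L] : DRing.HasTorAmplitudeIn A (a + c) (b + d)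
      ((DRing.restrictD φ).obj ((DRing.LTensorCx B L).obj K)) := by
  let _ := φ.toAlgebra
  exact S6953.result K a b c d hK L hL

end Ring

section Scheme

variable {X Y Z : Scheme.{u}}

local notation "stk(" x "," K ")" =>
  Functor.obj (Functor.mapHomologicalComplex (stalkF x) (ComplexShape.up ℤ)) K
local notation "pb(" f "," K ")" =>
  Functor.obj (Functor.mapHomologicalComplex (Scheme.Modules.pullback f) (ComplexShape.up ℤ)) K

/-- `Lf^* E ⊗ᴸ F` is computed by `F ⊗ f^* L` for a K-flat resolution `L` of `E`. -/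
theorem nonempty_ltensor_lpull (f : X ⟶ Y) [DCoh.HasLpull f] (F : CochainComplex X.Modules ℤ)
    [DCoh.HasLTensorCx F] {L : CochainComplex Y.Modules ℤ} (hL : DCoh.IsKFlat L) {E : DCoh.D Y}
    (e : DCoh.toD Y L ≅ E) :
    Nonempty ((DCoh.LTensorCx F).obj ((DCoh.Lpull f).obj E) ≅
      DCoh.toD X ((DCoh.tensorCx.obj F).obj pb(f, L))) := by
  have h1 := isKFlat_pullback f L hL
  exact ⟨(DCoh.LTensorCx F).mapIso ((DCoh.Lpull f).mapIso e.symm ≪≫ DerPull.lpullIso f L hL) ≪≫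
    (PerfC.DTens.LTXcxObj (Q.obj pb(f, L)) F).symm ≪≫ PerfC.DTens.κIso pb(f, L) F h1 ≪≫
    Q.mapIso ((PerfC.TensFlip.tensorCxFlip.app F).app pb(f, L))⟩

/-- The stalk over the base of `Lf^* E ⊗ᴸ F`. -/
theorem nonempty_stalk_ltensor_lpull (f : X ⟶ Y) [DCoh.HasLpull f] (F : CochainComplex X.Modules ℤ)
    [DCoh.HasLTensorCx F] {L : CochainComplex Y.Modules ℤ} (hL : DCoh.IsKFlat L) {E : DCoh.D Y}
    (e : DCoh.toD Y L ≅ E) (x : X) [DRing.HasLTensorCx (Y.presheaf.stalk (f.base x)) stk(f.base x, L)] :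
    Nonempty ((stalkOverD f x).obj ((DCoh.LTensorCx F).obj ((DCoh.Lpull f).obj E)) ≅
      (DRing.LTensorCx (Y.presheaf.stalk (f.base x)) stk(f.base x, L)).obj
        ((stalkOverD f x).obj (DCoh.toD X F))) := by
  obtain ⟨e1⟩ := nonempty_ltensor_lpull f F hL e
  obtain ⟨e2⟩ := nonempty_lten_kflat (kfl_stalk hL (f.base x))
    ((LoccohB.ProjF.resCx (f.stalkMap x).hom).obj stk(x, F))
  exact ⟨(stalkOverD f x).mapIso e1 ≪≫ stalkOverIso f x _ ≪≫
    Q.mapIso (stalkTensorPull f x F L) ≪≫ e2.symm ≪≫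
    (DRing.LTensorCx (Y.presheaf.stalk (f.base x)) stk(f.base x, L)).mapIso
      (stalkOverIso f x F).symm⟩

lemma exists_kflat (E : DCoh.D Y) : ∃ L : CochainComplex Y.Modules ℤ, DCoh.IsKFlat L ∧
    Nonempty (DCoh.toD Y L ≅ E) := by
  obtain ⟨L, q, h1, h2⟩ := (PerfC.PullKFlat.adapted (𝟙 Y)).exists_res (Q.objPreimage E)
  exact ⟨L, h1, ⟨asIso (Q.map q) ≪≫ Q.objObjPreimageIso E⟩⟩

/-- Stalkwise tor amplitude of `Lf^* E ⊗ᴸ F`. -/
theorem hasTorAmplitudeD_ltensor_lpull (f : X ⟶ Y) (g : Y ⟶ Z) [DCoh.HasLpull f]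
    (F : CochainComplex X.Modules ℤ) [DCoh.HasLTensorCx F] {a b c d : ℤ}
    (hF : DerSch.HasTorAmplitude f a b F) (E : DCoh.D Y)
    (hE : ∀ y : Y, DRing.HasTorAmplitudeIn (Z.presheaf.stalk (g.base y)) c d
      ((stalkOverD g y).obj E)) :
    DerSch.HasTorAmplitudeD (f ≫ g) (a + c) (b + d)
      ((DCoh.LTensorCx F).obj ((DCoh.Lpull f).obj E)) := by
  rw [hasTorAmplitudeD_iff]
  rw [hasTorAmplitude_iff] at hF
  intro x
  obtain ⟨L, hL, ⟨e⟩⟩ := exists_kflat E
  have i1 := LoccohB.LTen.hasLTensorCx (A := Y.presheaf.stalk (f.base x)) stk(f.base x, L)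
  obtain ⟨e1⟩ := nonempty_stalk_ltensor_lpull f F hL e x
  have h2 : DRing.HasTorAmplitudeIn (Z.presheaf.stalk (g.base (f.base x))) c d
      (DRing.toD ((LoccohB.ProjF.resCx (g.stalkMap (f.base x)).hom).obj stk(f.base x, L))) :=
    torAmp_of_iso ((stalkOverD g (f.base x)).mapIso e.symm ≪≫ stalkOverIso g (f.base x) L)
      (hE (f.base x))
  have h3 := torAmp_restrict_lten (g.stalkMap (f.base x)).hom _ a b c d (hF x) stk(f.base x, L) h2
  have h4 := torAmp_of_iso ((DRing.restrictD (g.stalkMap (f.base x)).hom).mapIso e1.symm) h3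
  exact torAmp_of_iso (K238.PushClosed.stalkOverComp f g x _) h4

/-- Vanishing of the cohomology of `Lf^* N ⊗ᴸ F`. -/
theorem isZero_HD_ltensor_lpull (f : X ⟶ Y) [DCoh.HasLpull f] (F : CochainComplex X.Modules ℤ)
    [DCoh.HasLTensorCx F] {m n : ℤ} (hF : ∀ x : X,
      DRing.HasTorAmplitudeIn (Y.presheaf.stalk (f.base x)) m n ((stalkOverD f x).obj (DCoh.toD X F)))
    (N : Y.Modules) (i : ℤ) (hi : i < m ∨ n < i) :
    IsZero (DCoh.HD ((DCoh.LTensorCx F).obj ((DCoh.Lpull f).obj (DCoh.inD Y N))) i) := by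
  obtain ⟨L, hL, ⟨e⟩⟩ := exists_kflat (DCoh.inD Y N)
  obtain ⟨e1⟩ := nonempty_ltensor_lpull f F hL e
  have h1 : ((DCoh.tensorCx.obj F).obj pb(f, L)).ExactAt i := by
    rw [exactAt_iff_stalk]
    intro x
    rw [← exactAt_res_iff (f.stalkMap x).hom]
    exact (exactAt_of_torAmp (torAmp_of_iso (stalkOverIso f x F) (hF x)) _ stk(f.base x, L)
      (kfl_stalk hL (f.base x)) (stalkRes e (f.base x)) i hi).of_iso (stalkTensorPull f x F L).symm
  refine (HomologicalComplex.ExactAt.isZero_homology h1).of_iso ?_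
  exact (homologyFunctor _ i).mapIso e1 ≪≫ (homologyFunctorFactors _ i).app _

end Scheme

end K241.TenPull
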