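import Groth.Agent.KSix.K241.LeftExact
import Groth.Agent.PerfB.Betti

/-!
# Consequences of the vanishing of two consecutive differentials of an approximation

If the differentials `M^{p-1} ⟶ M^p ⟶ M^{p+1}` of an approximation `M` of `E` in degrees `> m`, `m < p`, vanish on an
open `W`, then `H^p(E)` is free on `W` and the fibre dimension `dim H^p(E ⊗ᴸ κ(y))` is constant on `W`.
-/

set_option autoImplicit false
universe u
open CategoryTheory CategoryTheory.Limits HomologicalComplex AlgebraicGeometry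
attribute [local instance] HasDerivedCategory.standard

open DCoh Groth.Agent.Dcoh Groth.Agent.Dcoh.LocalD Groth.Agent.PerfB.MinModel Groth.Agent.PerfB.FibreDim
  Groth.Agent.PerfB.Betti

namespace K241.BettiConst

/-- The homology at a spot with zero differentials. -/
noncomputable def homologyIsoX {C : Type*} [Category* C] [Abelian C] (K : CochainComplex C ℤ)
    (p : ℤ) (h1 : K.d (p - 1) p = 0) (h2 : K.d p (p + 1) = 0) : K.homology p ≅ K.X p :=
  haveI := K.isIso_homologyπ (p - 1) p ((ComplexShape.up ℤ).prev_eq' (by simp)) h1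
  haveI := K.isIso_iCycles p (p + 1) ((ComplexShape.up ℤ).next_eq' (by simp)) h2
  (asIso (K.homologyπ p)).symm ≪≫ asIso (K.iCycles p)

variable {X : Scheme.{u}} {F M : CochainComplex X.Modules ℤ}
  (α : DerivedCategory.Q.obj M ⟶ DerivedCategory.Q.obj F) (m : ℤ) {U : Scheme.{u}} (j : U ⟶ X)
  [IsOpenImmersion j]
  (h1 : ∀ i : ℤ, m < i → IsIso ((DerivedCategory.homologyFunctor _ i).map
    ((DCoh.restrictD j).map α)))
  (h2 : Epi ((DerivedCategory.homologyFunctor _ m).map ((DCoh.restrictD j).map α)))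
  {n : ℤ → ℕ} (hM : ∀ i, Nonempty ((M.X i).restrict j ≅ FlatMod.freeMod U (n i)))
  (W : X.Opens) (hW : W ≤ j.opensRange) (p : ℤ) (hp : m < p)
  (hd1 : (Scheme.Modules.restrictFunctor W.ι).map (M.d (p - 1) p) = 0)
  (hd2 : (Scheme.Modules.restrictFunctor W.ι).map (M.d p (p + 1)) = 0)

include hM hW in
lemma nonempty_free (i : ℤ) :
    Nonempty (((DCoh.restrictCx W).obj M).X i ≅ FlatMod.freeMod (W : Scheme.{u}) (n i)) :=
  ⟨(Scheme.Modules.restrictFunctorCongr (LeftExact.liftW_fac j W hW).symm).app (M.X i) ≪≫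
    (Scheme.Modules.restrictFunctorComp (LeftExact.liftW j W hW) j).app (M.X i) ≪≫
    (Scheme.Modules.restrictFunctor (LeftExact.liftW j W hW)).mapIso (hM i).some ≪≫
    LocalD.freeModRestrict (LeftExact.liftW j W hW) (n i)⟩

include h1 hM hW hp hd1 hd2 in
/-- `H^p(E)` is free on `W`. -/
theorem nonempty_HD_iso : Nonempty ((DCoh.HD (DCoh.toD X F) p).restrict W.ι ≅
    FlatMod.freeMod (W : Scheme.{u}) (n p)) := by
  have h3 := LeftExact.isIso_restrictα W α p (LeftExact.isIso_restrict j W hW α p (h1 p hp))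
  exact ⟨(HDRestrict W.ι (DCoh.toD X F) p).symm ≪≫
    (DerivedCategory.homologyFunctor _ p).mapIso (QRestrict W.ι F) ≪≫
    (asIso ((DerivedCategory.homologyFunctor _ p).map (LeftExact.restrictα W α))).symm ≪≫
    (DerivedCategory.homologyFunctorFactors _ p).app ((DCoh.restrictCx W).obj M) ≪≫
    homologyIsoX _ p hd1 hd2 ≪≫ (nonempty_free j hM W hW p).some⟩

include h1 h2 hM hW hp hd1 hd2 in
/-- The fibre dimension is constant on `W`. -/
theorem betti_eq [∀ x : X, DCoh.HasLpull (X.fromSpecResidueField x)] {a b : ℤ}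
    (hn : ∀ i, i < a ∨ b < i → n i = 0) (y : X) (hy : y ∈ W) :
    PerfD.betti (DCoh.toD X F) y p = n p := by
  have hM' : TermsFree ((DCoh.restrictCx W).obj M) n := nonempty_free j hM W hW
  have hy' : y ∈ Set.range W.ι := by
    rw [Scheme.Opens.range_ι]
    exact hy
  have h3 : ∀ i : ℤ, m < i → IsIso ((DerivedCategory.homologyFunctor _ i).map
      ((QRestrict W.ι M).inv ≫ (DCoh.restrictD W.ι).map α)) := fun i hi => by
    have := LeftExact.isIso_restrict j W hW α i (h1 i hi)
    rw [Functor.map_comp]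
    infer_instance
  have h4 : Epi ((DerivedCategory.homologyFunctor _ m).map
      ((QRestrict W.ι M).inv ≫ (DCoh.restrictD W.ι).map α)) := by
    have := LeftExact.epi_restrict j W hW α m h2
    rw [Functor.map_comp]
    infer_instance
  rw [betti_eq_finrank y W.ι hM' hn hy' (DCoh.toD X F) m _ h3 h4 p hp]
  refine finrank_Γf_of_iso (isField_Γtop_residueField X y) _ (n p)
    ⟨homologyIsoX _ p ?_ ?_ ≪≫ (termsFree_fib y W.ι hM' hy' p).some⟩
  · change (Scheme.Modules.pullback (lift y W.ι hy')).map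
      ((Scheme.Modules.restrictFunctor W.ι).map (M.d (p - 1) p)) = 0
    rw [hd1, Functor.map_zero]
  · change (Scheme.Modules.pullback (lift y W.ι hy')).map
      ((Scheme.Modules.restrictFunctor W.ι).map (M.d p (p + 1))) = 0
    rw [hd2, Functor.map_zero]

end K241.BettiConst
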