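import Mathlib.Algebra.Homology.DerivedCategory.SingleTriangle
import Mathlib.Algebra.Homology.DerivedCategory.HomologySequence
import Mathlib.CategoryTheory.Abelian.Exact
import Groth.Agent.PerfC.IsoLocus

/-!
# Half exact functors from triangulated functors of derived categories

For a triangulated functor `G : D(A) ⥤ D(B)` put `T^p M = H^p(G(M[0]))`.
* `exact_mid`: `T^p` is exact in the middle;
* `epi_iff_mono`: for a short exact `S`, `T^p(S.g)` is an epimorphism iff `T^{p+1}(S.f)` is a monomorphism;
* `preservesFiniteColimits_iff`, `preservesFiniteLimits_iff`;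
* `rightExact_iff_leftExact_succ`: `T^p` is right exact iff `T^{p+1}` is left exact.
The functor `G` is assumed triangulated in the existential form `IsoLocus.IsTriang`.
-/

set_option autoImplicit false

universe w₁ w₂ v₁ v₂ u₁ u₂

open CategoryTheory CategoryTheory.Limits Pretriangulated
open Groth.Agent.PerfC.IsoLocus

namespace K241.ExactT

variable {A : Type u₁} [Category.{v₁} A] [Abelian A] [HasDerivedCategory.{w₁} A]
  {B : Type u₂} [Category.{v₂} B] [Abelian B] [HasDerivedCategory.{w₂} B]
  (G : DerivedCategory A ⥤ DerivedCategory B)

/-- `M ↦ H^p(G(M[0]))`. -/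
noncomputable abbrev T (p : ℤ) : A ⥤ B :=
  DerivedCategory.singleFunctor A 0 ⋙ G ⋙ DerivedCategory.homologyFunctor B p

variable {G}

theorem additive_T (hG : IsTriang G) (p : ℤ) : (T G p).Additive := by
  have := hG.additive
  infer_instance

section

variable (S : ShortComplex A) (hS : S.ShortExact)

include hS in
/-- The short complex `T^p S` is exact. -/
theorem exact_mid (hG : IsTriang G) (p : ℤ) [(T G p).PreservesZeroMorphisms] :
    (S.map (T G p)).Exact := by
  obtain ⟨c, t⟩ := hG
  have h := DerivedCategory.HomologySequence.exact₂ _
    (G.map_distinguished _ hS.singleTriangle_distinguished) p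
  exact h

include hS in
theorem epi_iff_mono (hG : IsTriang G) (p q : ℤ) (h : p + 1 = q) :
    Epi ((T G p).map S.g) ↔ Mono ((T G q).map S.f) := by
  obtain ⟨c, t⟩ := hG
  have h1 := DerivedCategory.HomologySequence.epi_homologyMap_mor₂_iff _
    (G.map_distinguished _ hS.singleTriangle_distinguished) p q h
  have h2 := DerivedCategory.HomologySequence.mono_homologyMap_mor₁_iff _
    (G.map_distinguished _ hS.singleTriangle_distinguished) p q h
  exact h1.trans h2.symm

end

theorem preservesFiniteColimits_iff (hG : IsTriang G) (p : ℤ) :
    PreservesFiniteColimits (T G p) ↔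
      ∀ S : ShortComplex A, S.ShortExact → Epi ((T G p).map S.g) := by
  have := additive_T hG p
  have := (T G p).preservesZeroMorphisms_of_additive
  constructor
  · intro h S hS
    have := hS.epi_g
    infer_instance
  · intro h
    have h4 := (Functor.preservesFiniteColimits_tfae (T G p)).out 0 3
    rw [← h4]
    exact fun S hS => ⟨exact_mid S hS hG p, h S hS⟩

theorem preservesFiniteLimits_iff (hG : IsTriang G) (p : ℤ) :
    PreservesFiniteLimits (T G p) ↔
      ∀ S : ShortComplex A, S.ShortExact → Mono ((T G p).map S.f) := by
  have := additive_T hG p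
  have := (T G p).preservesZeroMorphisms_of_additive
  constructor
  · intro h S hS
    have := hS.mono_f
    infer_instance
  · intro h
    have h4 := (Functor.preservesFiniteLimits_tfae (T G p)).out 0 3
    rw [← h4]
    exact fun S hS => ⟨exact_mid S hS hG p, h S hS⟩

/-- `T^p` is right exact iff `T^{p+1}` is left exact. -/
theorem rightExact_iff_leftExact (hG : IsTriang G) (p q : ℤ) (h : p + 1 = q) :
    PreservesFiniteColimits (T G p) ↔ PreservesFiniteLimits (T G q) := by
  rw [preservesFiniteColimits_iff hG, preservesFiniteLimits_iff hG]
  exact forall₂_congr fun S hS => epi_iff_mono S hS hG p q h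

end K241.ExactT
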