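import Groth.Agent.PerfC.DBifBi
import Groth.Agent.PerfC.LTBound
import Groth.Agent.Dcoh.TensSingle
import Groth.Agent.Dcoh.BddCx
import Groth.Agent.KSix.K241.ExactT

/-!
# The functors `N ↦ H^i(N ⊗ᴸ E)` for a derived bifunctor

* `isIso_homology_map`: a triangulated functor which is bounded above preserves the maps which are
  isomorphisms on `H^i` for `i > m` and epimorphisms on `H^m`;
* `tc T N M`: the complex `T(N, M^•)`, `mono_tc_iff`: comparison with the total complex;
* `mono_LT_iff`: `H^i(f ⊗ᴸ E)` is mono iff `H^i(f ⊗ᴸ E')` is, for `E ⟶ E'` an isomorphism in degrees `> m`.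
-/

set_option autoImplicit false

universe w₁ w₂ w₃ v₁ v₂ v₃ u₁ u₂ u₃

open CategoryTheory CategoryTheory.Limits Pretriangulated HomologicalComplex
open Groth.Agent.PerfC.IsoLocus Groth.Agent.PerfC.DBif Groth.Agent.Dcoh.CxFun
open Groth.Agent.Dcoh Groth.Agent.PerfC.DInd

namespace K241.BifT

section HomologyMap

variable {A : Type u₁} [Category.{v₁} A] [Abelian A] [HasDerivedCategory.{w₁} A]
  {B : Type u₂} [Category.{v₂} B] [Abelian B] [HasDerivedCategory.{w₂} B]
  (G : DerivedCategory A ⥤ DerivedCategory B)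

/-- The cone of a map which is an isomorphism in degrees `> m` and an epimorphism in degree `m`. -/
theorem exists_cone {K L : DerivedCategory A} (α : K ⟶ L) (m : ℤ)
    (h1 : ∀ i : ℤ, m < i → IsIso ((DerivedCategory.homologyFunctor _ i).map α))
    (h2 : Epi ((DerivedCategory.homologyFunctor _ m).map α)) :
    ∃ (C : DerivedCategory A) (β : L ⟶ C) (γ : C ⟶ K⟦(1 : ℤ)⟧),
      Triangle.mk α β γ ∈ distTriang (DerivedCategory A) ∧ C.IsLE (m - 1) := by
  obtain ⟨C, β, γ, hT⟩ := Pretriangulated.distinguished_cocone_triangle α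
  refine ⟨C, β, γ, hT, ?_⟩
  rw [DerivedCategory.isLE_iff]
  intro i hi
  refine BddCx.isZero_homology_obj₃ _ hT i (i + 1) rfl ?_ ?_
  · by_cases h : i = m
    · subst h; exact h2
    · have := h1 i (by omega)
      exact (inferInstance : Epi ((DerivedCategory.homologyFunctor _ i).map α))
  · have := h1 (i + 1) (by omega)
    exact (inferInstance : Mono ((DerivedCategory.homologyFunctor _ (i + 1)).map α))

variable {G}

/-- A triangulated functor which preserves `D^{≤ m - 1}` preserves the maps which are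
isomorphisms on `H^i` for `i > m` and epimorphisms on `H^m`. -/
theorem isIso_homology_map (hG : IsTriang G) {K L : DerivedCategory A} (α : K ⟶ L) (m : ℤ)
    (h1 : ∀ i : ℤ, m < i → IsIso ((DerivedCategory.homologyFunctor _ i).map α))
    (h2 : Epi ((DerivedCategory.homologyFunctor _ m).map α))
    (hR : ∀ C : DerivedCategory A, C.IsLE (m - 1) → (G.obj C).IsLE (m - 1)) :
    (∀ i : ℤ, m < i → IsIso ((DerivedCategory.homologyFunctor _ i).map (G.map α))) ∧
      Epi ((DerivedCategory.homologyFunctor _ m).map (G.map α)) := by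
  obtain ⟨C, β, γ, hT, hC⟩ := exists_cone α m h1 h2
  have hLC := hR C hC
  obtain ⟨c, t⟩ := hG
  have hT' := G.map_distinguished _ hT
  have hz : ∀ i : ℤ, m - 1 < i → IsZero ((DerivedCategory.homologyFunctor _ i).obj (G.obj C)) :=
    fun i hi => ((DerivedCategory.isLE_iff _ _).mp hLC i hi)
  have hepi : ∀ i : ℤ, m - 1 < i → Epi ((DerivedCategory.homologyFunctor _ i).map (G.map α)) :=
    fun i hi => (DerivedCategory.HomologySequence.epi_homologyMap_mor₁_iff _ hT' i).2
      ((hz i hi).eq_of_tgt _ _)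
  have hmono : ∀ i : ℤ, m < i → Mono ((DerivedCategory.homologyFunctor _ i).map (G.map α)) :=
    fun i hi => (DerivedCategory.HomologySequence.mono_homologyMap_mor₁_iff _ hT' (i - 1) i
      (by omega)).2 ((hz (i - 1) (by omega)).eq_of_src _ _)
  refine ⟨fun i hi => ?_, hepi m (by omega)⟩
  have := hepi i (by omega)
  have := hmono i hi
  exact isIso_of_mono_of_epi _

end HomologyMap

section Arrow

variable {C : Type*} [Category* C]

lemma arrow_of_sq {X Y X' Y' : C} (f : X ⟶ Y) (f' : X' ⟶ Y') (a : X ⟶ X') (b : Y ⟶ Y')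
    (ha : IsIso a) (hb : IsIso b) (w : f ≫ b = a ≫ f') : Nonempty (Arrow.mk f ≅ Arrow.mk f') :=
  ⟨Arrow.isoMk (asIso a) (asIso b) w.symm⟩

lemma mono_iff_of_sq {X Y X' Y' : C} (f : X ⟶ Y) (f' : X' ⟶ Y') (a : X ⟶ X') (b : Y ⟶ Y')
    [IsIso a] [IsIso b] (w : f ≫ b = a ≫ f') : Mono f ↔ Mono f' :=
  (MorphismProperty.monomorphisms C).arrow_mk_iso_iff (Arrow.isoMk (asIso a) (asIso b) w.symm)

lemma epi_iff_of_sq {X Y X' Y' : C} (f : X ⟶ Y) (f' : X' ⟶ Y') (a : X ⟶ X') (b : Y ⟶ Y')
    [IsIso a] [IsIso b] (w : f ≫ b = a ≫ f') : Epi f ↔ Epi f' :=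
  (MorphismProperty.epimorphisms C).arrow_mk_iso_iff (Arrow.isoMk (asIso a) (asIso b) w.symm)

end Arrow

variable {A : Type u₁} [Category.{v₁} A] [Abelian A]
  {B : Type u₂} [Category.{v₂} B] [Abelian B]
  {C : Type u₃} [Category.{v₃} C] [Abelian C]
  (T : A ⥤ B ⥤ C) [T.Additive] [∀ X₁, (T.obj X₁).Additive]

/-- The complex `T(N, M^•)`. -/
noncomputable abbrev tc (N : A) (M : CochainComplex B ℤ) : CochainComplex C ℤ :=
  ((T.obj N).mapHomologicalComplex (ComplexShape.up ℤ)).obj M

/-- The map `T(N, M^•) ⟶ T(N', M^•)`. -/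
noncomputable abbrev tcMap {N N' : A} (f : N ⟶ N') (M : CochainComplex B ℤ) : tc T N M ⟶ tc T N' M :=
  (NatTrans.mapHomologicalComplex (T.map f) (ComplexShape.up ℤ)).app M

section Single

variable [∀ (K₁ : CochainComplex A ℤ) (K₂ : CochainComplex B ℤ), CochainComplex.HasMapBifunctor K₁ K₂ T]

lemma singleLeft_naturality {N N' : A} (f : N ⟶ N') (M : CochainComplex B ℤ) :
    (TensSingle.singleLeftIsoApp T N M).hom ≫
        (T.map₂CochainComplex.map ((single A (ComplexShape.up ℤ) 0).map f)).app M =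
      tcMap T f M ≫ (TensSingle.singleLeftIsoApp T N' M).hom := by
  ext n
  change TensSingle.leftHom T N M n ≫
    (mapBifunctorMap ((single A (ComplexShape.up ℤ) 0).map f) (𝟙 M) T (ComplexShape.up ℤ)).f n =
      (T.map f).app (M.X n) ≫ TensSingle.leftHom T N' M n
  dsimp only [TensSingle.leftHom]
  rw [Category.assoc, ι_mapBifunctorMap]
  simp only [id_f, CategoryTheory.Functor.map_id, Category.id_comp, ← NatTrans.comp_app_assoc,
    ← Functor.map_comp]
  have h : (singleObjXSelf (ComplexShape.up ℤ) 0 N).inv ≫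
      ((single A (ComplexShape.up ℤ) 0).map f).f 0 = f ≫ (singleObjXSelf (ComplexShape.up ℤ) 0 N').inv := by
    rw [Iso.inv_comp_eq, ← Category.assoc, Iso.eq_comp_inv]
    simp [single_map_f_self]
  rw [h]

variable {G : CochainComplex A ℤ ⥤ CochainComplex B ℤ ⥤ CochainComplex C ℤ}
  (hG : G = T.map₂CochainComplex)

include hG in
lemma arrow_tc {N N' : A} (f : N ⟶ N') (M : CochainComplex B ℤ) (i : ℤ) :
    Nonempty (Arrow.mk (homologyMap ((G.map ((single A (ComplexShape.up ℤ) 0).map f)).app M) i) ≅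
      Arrow.mk (homologyMap (tcMap T f M) i)) := by
  subst hG
  obtain ⟨e⟩ := arrow_of_sq (homologyMap (tcMap T f M) i)
    (homologyMap ((T.map₂CochainComplex.map ((single A (ComplexShape.up ℤ) 0).map f)).app M) i)
    (homologyMap (TensSingle.singleLeftIsoApp T N M).hom i)
    (homologyMap (TensSingle.singleLeftIsoApp T N' M).hom i) inferInstance inferInstance (by
      rw [← homologyMap_comp, ← homologyMap_comp, singleLeft_naturality])
  exact ⟨e.symm⟩

include hG in
lemma mono_tc_iff {N N' : A} (f : N ⟶ N') (M : CochainComplex B ℤ) (i : ℤ) :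
    Mono (homologyMap ((G.map ((single A (ComplexShape.up ℤ) 0).map f)).app M) i) ↔
      Mono (homologyMap (tcMap T f M) i) :=
  (MorphismProperty.monomorphisms C).arrow_mk_iso_iff (arrow_tc T hG f M i).some

end Single

omit [Abelian A] [T.Additive] in
lemma mono_tcMap {N N' : A} (f : N ⟶ N') (M : CochainComplex B ℤ) (j i : ℤ) (hij : j + 1 = i)
    (hd : M.d j i = 0) [Mono ((T.map f).app (M.X i))] : Mono (homologyMap (tcMap T f M) i) := by
  have hprev : (ComplexShape.up ℤ).prev i = j := (ComplexShape.up ℤ).prev_eq' hij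
  have h1 : ∀ N : A, (tc T N M).d j i = 0 := fun N => by
    change (T.obj N).map (M.d j i) = 0
    rw [hd, Functor.map_zero]
  have h2 : ∀ N : A, IsIso ((tc T N M).homologyπ i) := fun N =>
    (tc T N M).isIso_homologyπ j i hprev (h1 N)
  have h3 := h2 N
  have h4 := h2 N'
  have h5 : Mono (cyclesMap (tcMap T f M) i) := by
    have h6 : cyclesMap (tcMap T f M) i ≫ (tc T N' M).iCycles i =
        (tc T N M).iCycles i ≫ (T.map f).app (M.X i) := cyclesMap_i _ _
    have h7 : Mono (cyclesMap (tcMap T f M) i ≫ (tc T N' M).iCycles i) := by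
      rw [h6]
      exact mono_comp' inferInstance ‹_›
    exact mono_of_mono _ ((tc T N' M).iCycles i)
  exact (mono_iff_of_sq (cyclesMap (tcMap T f M) i) _ ((tc T N M).homologyπ i)
    ((tc T N' M).homologyπ i) (homologyπ_naturality _ _).symm).1 h5

section LT

variable [HasDerivedCategory.{w₁} A] [HasDerivedCategory.{w₂} B] [HasDerivedCategory.{w₃} C]
  {G : CochainComplex A ℤ ⥤ CochainComplex B ℤ ⥤ CochainComplex C ℤ}
  {P : ObjectProperty (CochainComplex A ℤ)} (h : BifData G P) [HasLT G]

/-- The map `H^i(f ⊗ᴸ E)`. -/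
noncomputable abbrev hmap {N N' : A} (f : N ⟶ N') (E : DerivedCategory B) (i : ℤ) :=
  (DerivedCategory.homologyFunctor C i).map
    (((LT h).map ((DerivedCategory.singleFunctor A 0).map f)).app E)

omit [T.Additive] [∀ X₁, (T.obj X₁).Additive] in
lemma mono_hmap_congr {N N' : A} (f : N ⟶ N') {E E' : DerivedCategory B} (α : E ⟶ E') (i : ℤ)
    (h1 : IsIso ((DerivedCategory.homologyFunctor C i).map
      (((LT h).obj ((DerivedCategory.singleFunctor A 0).obj N)).map α)))
    (h2 : IsIso ((DerivedCategory.homologyFunctor C i).map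
      (((LT h).obj ((DerivedCategory.singleFunctor A 0).obj N')).map α))) :
    Mono (hmap h f E i) ↔ Mono (hmap h f E' i) := by
  refine mono_iff_of_sq (hmap h f E i) (hmap h f E' i) ((DerivedCategory.homologyFunctor C i).map
    (((LT h).obj ((DerivedCategory.singleFunctor A 0).obj N)).map α))
    ((DerivedCategory.homologyFunctor C i).map
      (((LT h).obj ((DerivedCategory.singleFunctor A 0).obj N')).map α)) ?_
  rw [← Functor.map_comp, ← Functor.map_comp, NatTrans.naturality]

/-- Comparison of `H^i(f ⊗ᴸ E)` with the derived functor `- ⊗ᴸ E`. -/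
lemma mono_LTobj_iff {N N' : A} (f : N ⟶ N') (E : CochainComplex B ℤ) (i : ℤ) :
    Mono ((ExactT.T (LTobj G E) i).map f) ↔
      Mono (hmap h f (DerivedCategory.Q.obj E) i) := by
  have e := (LTflip h E).hom.naturality ((DerivedCategory.singleFunctor A 0).map f)
  refine (mono_iff_of_sq
    ((DerivedCategory.homologyFunctor C i).map (((LTf h).obj (DerivedCategory.Q.obj E)).map
      ((DerivedCategory.singleFunctor A 0).map f)))
    ((DerivedCategory.homologyFunctor C i).map ((LTobj G E).map
      ((DerivedCategory.singleFunctor A 0).map f)))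
    ((DerivedCategory.homologyFunctor C i).map ((LTflip h E).hom.app
      ((DerivedCategory.singleFunctor A 0).obj N)))
    ((DerivedCategory.homologyFunctor C i).map ((LTflip h E).hom.app
      ((DerivedCategory.singleFunctor A 0).obj N'))) ?_).symm
  rw [← Functor.map_comp, ← Functor.map_comp, e]

/-- `H^i(f ⊗ᴸ M)` for `- ⊗ M` preserving quasi-isomorphisms. -/
lemma arrow_hmap {N N' : A} (f : N ⟶ N') (M : CochainComplex B ℤ) [PresQis (G.flip.obj M)]
    (i : ℤ) : Nonempty (Arrow.mk (hmap h f (DerivedCategory.Q.obj M) i) ≅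
      Arrow.mk (homologyMap ((G.map ((single A (ComplexShape.up ℤ) 0).map f)).app M) i)) := by
  have h1 := isIso_κ' h ((single A (ComplexShape.up ℤ) 0).obj N) M
  have h2 := isIso_κ' h ((single A (ComplexShape.up ℤ) 0).obj N') M
  have e1 := κ_nat₁ h ((single A (ComplexShape.up ℤ) 0).map f) M
  have e2 := (DerivedCategory.homologyFunctorFactors C i).hom.naturality
    ((G.map ((single A (ComplexShape.up ℤ) 0).map f)).app M)
  have e3 := congrArg (DerivedCategory.homologyFunctor C i).map e1
  rw [Functor.map_comp, Functor.map_comp] at e3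
  have h3 : IsIso ((DerivedCategory.homologyFunctor C i).map
    (κ h ((single A (ComplexShape.up ℤ) 0).obj N) M)) := inferInstance
  have h4 : IsIso ((DerivedCategory.homologyFunctor C i).map
    (κ h ((single A (ComplexShape.up ℤ) 0).obj N') M)) := inferInstance
  obtain ⟨e⟩ := arrow_of_sq (hmap h f (DerivedCategory.Q.obj M) i)
    ((DerivedCategory.homologyFunctor C i).map (DerivedCategory.Q.map
      ((G.map ((single A (ComplexShape.up ℤ) 0).map f)).app M)))
    ((DerivedCategory.homologyFunctor C i).map (κ h ((single A (ComplexShape.up ℤ) 0).obj N) M))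
    ((DerivedCategory.homologyFunctor C i).map (κ h ((single A (ComplexShape.up ℤ) 0).obj N') M))
    h3 h4 e3
  obtain ⟨e'⟩ := arrow_of_sq _ _
      ((DerivedCategory.homologyFunctorFactors C i).hom.app
        ((G.obj ((single A (ComplexShape.up ℤ) 0).obj N)).obj M))
      ((DerivedCategory.homologyFunctorFactors C i).hom.app
        ((G.obj ((single A (ComplexShape.up ℤ) 0).obj N')).obj M))
      (NatIso.hom_app_isIso _ _) (NatIso.hom_app_isIso _ _) e2
  exact ⟨e ≪≫ e'⟩

/-- `H^i(f ⊗ᴸ M)` for `- ⊗ M` preserving quasi-isomorphisms. -/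
lemma mono_hmap_Q_iff {N N' : A} (f : N ⟶ N') (M : CochainComplex B ℤ) [PresQis (G.flip.obj M)]
    (i : ℤ) : Mono (hmap h f (DerivedCategory.Q.obj M) i) ↔
      Mono (homologyMap ((G.map ((single A (ComplexShape.up ℤ) 0).map f)).app M) i) :=
  (MorphismProperty.monomorphisms C).arrow_mk_iso_iff (arrow_hmap h f M i).some

variable [∀ (K₁ : CochainComplex A ℤ) (K₂ : CochainComplex B ℤ), CochainComplex.HasMapBifunctor K₁ K₂ T]

/-- The map `H^i(f ⊗ᴸ E)` is computed by a complex which approximates `E`. -/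
theorem mono_T_iff (hG : G = T.map₂CochainComplex)
    (hR : ∀ (N : A) (c : ℤ) (Y : DerivedCategory B), Y.IsLE c →
      (((LT h).obj ((DerivedCategory.singleFunctor A 0).obj N)).obj Y).IsLE c)
    {E M : CochainComplex B ℤ} [PresQis (G.flip.obj M)]
    (α : DerivedCategory.Q.obj M ⟶ DerivedCategory.Q.obj E) (m : ℤ)
    (h1 : ∀ i : ℤ, m < i → IsIso ((DerivedCategory.homologyFunctor _ i).map α))
    (h2 : Epi ((DerivedCategory.homologyFunctor _ m).map α)) (i : ℤ) (hi : m < i)
    {N N' : A} (f : N ⟶ N') :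
    Mono ((ExactT.T (LTobj G E) i).map f) ↔ Mono (homologyMap (tcMap T f M) i) := by
  have h3 : ∀ N : A, IsIso ((DerivedCategory.homologyFunctor C i).map
      (((LT h).obj ((DerivedCategory.singleFunctor A 0).obj N)).map α)) := fun N =>
    (isIso_homology_map (Groth.Agent.PerfC.DBifBi.isTriang_LT_obj T hG h _) α m h1 h2
      (fun Y hY => hR N _ Y hY)).1 i hi
  rw [mono_LTobj_iff h, ← mono_hmap_congr h f α i (h3 N) (h3 N'), mono_hmap_Q_iff h,
    mono_tc_iff T hG]

end LT

end K241.BifT
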