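import Groth.Prelude.Def_DerSch2
import Groth.Agent.PerfC.ClosedImmPc

/-!
# One chart of the relative pseudo-coherence condition, through `i_*` on derived categories

* `isClosedImmersion_chartImm`
* `pc_of_chartPC`: `ChartPC m K U V φ` gives pseudo-coherence of `i_* (K|_U)`, `i = chartImm U φ`.
* `exists_local`: near every point of `X`, a relatively `m`-pseudo-coherent object has an
  `m`-pseudo-coherent direct image along a closed immersion of an affine open neighbourhood in an affine scheme.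
-/

set_option autoImplicit false
universe u
open CategoryTheory CategoryTheory.Limits AlgebraicGeometry
attribute [local instance] HasDerivedCategory.standard

namespace K241.Chart

open Groth.Agent.PerfA.Restrict Groth.Agent.PerfC.ClosedPush Groth.Agent.PerfC.ClosedImmPc
  Groth.Agent.PerfC.PcLocal

variable {X Y : Scheme.{u}}

theorem isClosedImmersion_chartImm {U : X.Opens} (hU : IsAffineOpen U) {R : Type u} [CommRing R]
    {n : ℕ} (φ : MvPolynomial (Fin n) R →+* Γ(X, U)) (hφ : Function.Surjective φ) :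
    IsClosedImmersion (DerSch.chartImm U φ) := by
  have : IsAffine (U : Scheme.{u}) := hU
  have h1 : IsIso U.toSpecΓ := hU.isoSpec_hom ▸ (inferInstance : IsIso hU.isoSpec.hom)
  have h2 : IsClosedImmersion (Spec.map (CommRingCat.ofHom φ)) :=
    IsClosedImmersion.spec_of_surjective _ hφ
  unfold DerSch.chartImm
  infer_instance

/-- The termwise description of `i_*(K|_U)`. -/
noncomputable def pushRestrictQ {W P : Scheme.{u}} (i : W ⟶ P) [IsClosedImmersion i] (j : W ⟶ X)
    [IsOpenImmersion j] (G : CochainComplex X.Modules ℤ) :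
    (pushD i).obj ((restrictD j).obj (DerivedCategory.Q.obj G)) ≅
      DerivedCategory.Q.obj ((DerSch.pushCx i).obj
        (((Scheme.Modules.restrictFunctor j).mapHomologicalComplex (ComplexShape.up ℤ)).obj G)) :=
  (pushD i).mapIso (restrictDQ j G) ≪≫
    (Scheme.Modules.pushforward i).mapDerivedCategoryFactors.app _

theorem chartPC_iff {m : ℤ} (K : DCoh.D X) {U : X.Opens} {V : Y.Opens} {n : ℕ}
    (φ : MvPolynomial (Fin n) Γ(Y, V) →+* Γ(X, U)) [IsClosedImmersion (DerSch.chartImm U φ)] :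
    DerSch.ChartPC m K U V φ ↔ DCoh.IsPseudoCoherentD m
      ((pushD (DerSch.chartImm U φ)).obj ((restrictD U.ι).obj K)) := by
  constructor
  · intro h
    obtain ⟨G, ⟨e⟩⟩ := exists_rep X K
    exact pc_of_iso ((pushRestrictQ (DerSch.chartImm U φ) U.ι G).symm ≪≫
      (pushD _).mapIso ((restrictD U.ι).mapIso e)) (h G ⟨e⟩)
  · rintro h G ⟨e⟩
    exact pc_of_iso ((pushD _).mapIso ((restrictD U.ι).mapIso e.symm) ≪≫
      (pushRestrictQ (DerSch.chartImm U φ) U.ι G)) h

/-- Near every point a relatively `m`-pseudo-coherent object becomes `m`-pseudo-coherent after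
direct image along a closed immersion of an affine open neighbourhood in an affine scheme. -/
theorem exists_local (f : X ⟶ Y) (m : ℤ) (K : DCoh.D X) (h : DerSch.IsPseudoCoherentRel f m K)
    (x : X) : ∃ (U : X.Opens) (P : Scheme.{u}) (i : (U : Scheme.{u}) ⟶ P) (_ : IsClosedImmersion i)
      (_ : IsAffine P), x ∈ U ∧ IsAffineOpen U ∧
      DCoh.IsPseudoCoherentD m ((pushD i).obj ((restrictD U.ι).obj K)) := by
  obtain ⟨-, 𝒱, h𝒱, h2⟩ := h
  have hx : f.base x ∈ (⨆ V ∈ 𝒱, (V : Y.Opens)) := by rw [h𝒱]; trivial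
  simp only [TopologicalSpace.Opens.mem_iSup] at hx
  obtain ⟨V, hV, hxV⟩ := hx
  obtain ⟨𝒰, h𝒰, h3⟩ := h2 V hV
  have hx' : x ∈ (⨆ U ∈ 𝒰, (U : X.Opens)) := by rw [h𝒰]; exact hxV
  simp only [TopologicalSpace.Opens.mem_iSup] at hx'
  obtain ⟨U, hU, hxU⟩ := hx'
  have hle : (U : X.Opens) ≤ f ⁻¹ᵁ (V : Y.Opens) := by
    rw [← h𝒰]
    exact le_iSup₂ (f := fun (U : X.affineOpens) (_ : U ∈ 𝒰) => (U : X.Opens)) U hU
  obtain ⟨n, φ, hφ, h4⟩ := h3 U hU hle
  have := isClosedImmersion_chartImm U.2 φ hφ.1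
  exact ⟨U, _, DerSch.chartImm (U : X.Opens) φ, this, inferInstance, hxU, U.2,
    (chartPC_iff K φ).1 h4⟩

end K241.Chart
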