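import Groth.Agent.PerfC.QCohStalk
import Groth.Agent.PerfA.QCohSerre

/-!
# A quasi-coherent test sequence at a point

On a quasi-separated scheme, for every `x` there is a short exact sequence of quasi-coherent modules whose stalk at `x`
is `0 ⟶ 𝔪 ⟶ O_{X,x} ⟶ κ(x) ⟶ 0`.
-/

set_option autoImplicit false
universe u
open CategoryTheory CategoryTheory.Limits AlgebraicGeometry Opposite TopologicalSpace

open Groth.Agent.Dcoh.Stalk Groth.Agent.PerfC.QCohStalk

namespace K241.QTest

variable {X : Scheme.{u}} (x : X)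

/-- The push forward of `N~` along `Spec O_{X,x} ⟶ X`, as a functor. -/
noncomputable def GF : ModuleCat.{u} (X.presheaf.stalk x) ⥤ X.Modules :=
  tilde.functor (X.presheaf.stalk x) ⋙ Scheme.Modules.pushforward (X.fromSpecStalk x)

lemma stalkToΓ_naturality {N N' : ModuleCat.{u} (X.presheaf.stalk x)} (f : N ⟶ N')
    (z : (G x N).presheaf.stalk x) :
    stalkToΓ x N' (((stalkF x).map ((GF x).map f)).hom z) =
      ((tilde.functor (X.presheaf.stalk x)).map f).app ⊤ (stalkToΓ x N z) := by
  obtain ⟨U, hU, s, rfl⟩ := TopCat.Presheaf.exists_germ_eq (G x N).presheaf z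
  have h1 : ((stalkF x).map ((GF x).map f)).hom ((G x N).presheaf.germ U x hU s) =
      (G x N').presheaf.germ U x hU (((GF x).map f).app U s) :=
    Groth.Agent.Dcoh.FlatTor.stalkF_map_germ x ((GF x).map f) U hU s
  rw [h1, stalkToΓ_germ, stalkToΓ_germ]
  exact (ConcreteCategory.congr_hom (((tilde.functor (X.presheaf.stalk x)).map f).mapPresheaf.naturality
    (homOfLE (preimage_fromSpecStalk_eq_top x hU).ge).op) s).symm

/-- The stalk of `GF x N` at `x` is `N`. -/
noncomputable def GIso (N : ModuleCat.{u} (X.presheaf.stalk x)) :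
    (stalkF x).obj ((GF x).obj N) ≅ N := stalkGIso x N

lemma GIso_comp (N : ModuleCat.{u} (X.presheaf.stalk x)) (z : (G x N).presheaf.stalk x) :
    (tilde.isoTop N).hom.hom ((GIso x N).hom.hom z) = stalkToΓ x N z :=
  ConcreteCategory.congr_hom (tilde.isoTop N).inv_hom_id (stalkToΓ x N z)

lemma GIso_naturality {N N' : ModuleCat.{u} (X.presheaf.stalk x)} (f : N ⟶ N') :
    (stalkF x).map ((GF x).map f) ≫ (GIso x N').hom = (GIso x N).hom ≫ f := by
  ext z
  apply (tilde.isoTop N').toLinearEquiv.injective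
  change (tilde.isoTop N').hom.hom ((GIso x N').hom.hom (((stalkF x).map ((GF x).map f)).hom z)) =
    (tilde.isoTop N').hom.hom (f.hom ((GIso x N).hom.hom z))
  have h1 : (tilde.isoTop N').hom.hom (f.hom ((GIso x N).hom.hom z)) =
      ((modulesSpecToSheaf.map (tilde.map f)).hom.app (op ⊤)).hom
        ((tilde.isoTop N).hom.hom ((GIso x N).hom.hom z)) :=
    (ConcreteCategory.congr_hom (tilde.toOpen_map_app f ⊤) ((GIso x N).hom.hom z)).symm
  refine Eq.trans ?_ h1.symm
  refine (GIso_comp x N' _).trans ((stalkToΓ_naturality x f z).trans ?_)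
  exact (congrArg (fun t => ((modulesSpecToSheaf.map (tilde.map f)).hom.app (op ⊤)).hom t)
    (GIso_comp x N z)).symm

/-- The residue map. -/
noncomputable def res0 (R : Type u) [CommRing R] (I : Ideal R) :
    ModuleCat.of R R ⟶ ModuleCat.of R (R ⧸ I) := ModuleCat.ofHom I.mkQ

/-- The inclusion of an ideal. -/
abbrev incl {R : Type u} [CommRing R] (I : Ideal R) : ModuleCat.of R I ⟶ ModuleCat.of R R :=
  ModuleCat.ofHom I.subtype

theorem incl_exact {R : Type u} [CommRing R] (I : Ideal R) :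
    ∃ w : incl I ≫ res0 R I = 0, (ShortComplex.mk (incl I) (res0 R I) w).ShortExact := by
  refine ⟨by ext r; exact (Submodule.Quotient.mk_eq_zero I).2 r.2, ?_⟩
  have h1 : Mono (incl I) := by
    rw [ModuleCat.mono_iff_injective]
    exact Submodule.subtype_injective _
  have h2 : Epi (res0 R I) := by
    rw [ModuleCat.epi_iff_surjective]
    exact Submodule.mkQ_surjective I
  refine ShortComplex.ShortExact.mk' ?_ h1 h2
  rw [ShortComplex.moduleCat_exact_iff]
  intro r hr
  exact ⟨⟨r, (Submodule.Quotient.mk_eq_zero I).1 hr⟩, rfl⟩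

/-- There is a short exact sequence of quasi-coherent modules with stalk `0 ⟶ 𝔪 ⟶ O_{X,x} ⟶ κ(x) ⟶ 0` at `x`. -/
theorem exists_test [QuasiSeparatedSpace X] : ∃ S : ShortComplex X.Modules, S.ShortExact ∧
    Coh.IsQCoh S.X₁ ∧ Coh.IsQCoh S.X₂ ∧ Coh.IsQCoh S.X₃ ∧
    Nonempty (Arrow.mk ((stalkF x).map S.f) ≅
      Arrow.mk (incl (IsLocalRing.maximalIdeal (X.presheaf.stalk x)))) := by
  let R := X.presheaf.stalk x
  obtain ⟨w, hw⟩ := incl_exact (IsLocalRing.maximalIdeal R)
  let g := (GF x).map (res0 R (IsLocalRing.maximalIdeal R))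
  have hP : Coh.IsQCoh ((GF x).obj (ModuleCat.of R R)) := isQCoh_G x _
  have hk : Coh.IsQCoh ((GF x).obj (ModuleCat.of R (R ⧸ IsLocalRing.maximalIdeal R))) := isQCoh_G x _
  have hK : Coh.IsQCoh (kernel g) := Groth.Agent.PerfA.QCohSerre.isQCoh_kernel g hP hk
  refine ⟨ShortComplex.mk (kernel.ι g) (cokernel.π (kernel.ι g)) (cokernel.condition _),
    ShortComplex.ShortExact.mk' (ShortComplex.exact_cokernel _) inferInstance inferInstance,
    hK, hP, Groth.Agent.PerfA.QCohSerre.isQCoh_cokernel _ hK hP, ?_⟩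
  -- the stalk of the kernel
  have e1 : Arrow.mk ((stalkF x).map (kernel.ι g)) ≅ Arrow.mk (kernel.ι ((stalkF x).map g)) :=
    Arrow.isoMk (PreservesKernel.iso (stalkF x) g) (Iso.refl _) (by
      simp [PreservesKernel.iso_hom])
  have e2 : Arrow.mk (kernel.ι ((stalkF x).map g)) ≅
      Arrow.mk (kernel.ι (res0 R (IsLocalRing.maximalIdeal R))) :=
    Arrow.isoMk (kernel.mapIso ((stalkF x).map g) (res0 R (IsLocalRing.maximalIdeal R))
      (GIso x _) (GIso x _) (GIso_naturality x _)) (GIso x _) (by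
        simp [kernel.mapIso, kernel.map])
  have h3 : IsLimit (KernelFork.ofι (incl (IsLocalRing.maximalIdeal R)) w) :=
    hw.fIsKernel
  have e3 : Arrow.mk (kernel.ι (res0 R (IsLocalRing.maximalIdeal R))) ≅
      Arrow.mk (incl (IsLocalRing.maximalIdeal R)) :=
    Arrow.isoMk ((kernelIsKernel _).conePointUniqueUpToIso h3) (Iso.refl _) (by
      have := (kernelIsKernel (res0 R (IsLocalRing.maximalIdeal R))).conePointUniqueUpToIso_hom_comp
        h3 WalkingParallelPair.zero
      simpa using this)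
  exact ⟨e1 ≪≫ e2 ≪≫ e3⟩

end K241.QTest
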