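import Groth.Agent.KSix.K241.BettiConst
import Groth.Agent.KSix.K241.QTest
import Groth.Prelude.Def_QCohCat

/-!
# Exactness of `N ↦ H^p(N ⊗ᴸ F)` and freeness of `H^p(F)`

`conclusion`: let `F` be `(p-1)`-pseudo-coherent.  Assume that for every `x` there is a short exact sequence `S` with
stalk `𝔪 ⟶ O_{X,x} ⟶ κ(x)` at `x` such that `H^p(S.f ⊗ᴸ F)` is mono and `H^p(S.g ⊗ᴸ F)` is epi.  Then `H^p(F)` is
finite locally free and the fibre dimension of `F` in degree `p` is locally constant.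
-/

set_option autoImplicit false
universe u
open CategoryTheory CategoryTheory.Limits HomologicalComplex AlgebraicGeometry
attribute [local instance] HasDerivedCategory.standard

open DCoh Groth.Agent.Dcoh Groth.Agent.Dcoh.Stalk Groth.Agent.PerfB.SkyFun

namespace K241.ExactFree

variable {X : Scheme.{u}}

/-- The test sequences of the criterion. -/
structure TestSeq (F : CochainComplex X.Modules ℤ) [DCoh.HasLTensorCx F] (p : ℤ) (x : X) where
  S : ShortComplex X.Modules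
  hS : S.ShortExact
  e : Nonempty (Arrow.mk ((stalkF x).map S.f) ≅
      Arrow.mk (RingCore.incl (IsLocalRing.maximalIdeal (X.presheaf.stalk x))))
  mono : Mono ((ExactT.T (DCoh.LTensorCx F) p).map S.f)
  epi : Epi ((ExactT.T (DCoh.LTensorCx F) p).map S.g)

/-- The local statement. -/
theorem local_conclusion (F : CochainComplex X.Modules ℤ) (p : ℤ)
    (hE : DCoh.IsPseudoCoherentD (p - 1) (DCoh.toD X F)) [DCoh.HasLTensorCx F]
    [∀ x : X, DCoh.HasLpull (X.fromSpecResidueField x)] (x : X) (H : TestSeq F p x) :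
    ∃ (W : X.Opens) (n : ℕ), x ∈ W ∧ Nonempty ((DCoh.HD (DCoh.toD X F) p).restrict W.ι ≅
      FlatMod.freeMod (W : Scheme.{u}) n) ∧ ∀ y ∈ W, PerfD.betti (DCoh.toD X F) y p = n := by
  obtain ⟨U, j, hj, hx, M, n, a, b, α, hflat, hb, hmin, hM, hn, h1, h2⟩ :=
    Model.exists_model (p - 1) (DCoh.toD X F) hE x
  obtain ⟨e⟩ := H.e
  have hK := PointTest.isKFlat_of_flat hflat hb
  have hd1 := PointTest.d_stalk_eq_zero_of_mono_T hK α (p - 1) j hx h1 h2 n hmin hM p (by omega)
    H.S.f e H.mono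
  have hd2 := PointTest.d_stalk_eq_zero_of_mono_T hK α (p - 1) j hx h1 h2 n hmin hM (p + 1)
    (by omega) H.S.f e ((ExactT.epi_iff_mono H.S H.hS (SchBif.isTriang F) p (p + 1) rfl).1 H.epi)
  have hd2' : (stalkF x).map (M.d p (p + 1)) = 0 := by
    have key : ∀ k, k = p → (stalkF x).map (M.d k (p + 1)) = 0 → (stalkF x).map (M.d p (p + 1)) = 0 := by
      rintro k rfl h
      exact h
    exact key (p + 1 - 1) (by omega) hd2
  obtain ⟨W₁, hx₁, hW₁, hz₁⟩ := StalkPt.exists_opens_map_eq_zero j (hM (p - 1)) hx (M.d (p - 1) p) hd1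
  obtain ⟨W₂, hx₂, hW₂, hz₂⟩ := StalkPt.exists_opens_map_eq_zero j (hM p) hx (M.d p (p + 1)) hd2'
  let W := W₁ ⊓ W₂
  have hz₁' : (Scheme.Modules.restrictFunctor W.ι).map (M.d (p - 1) p) = 0 := by
    have := Spread.map_eq_of_le (M.d (p - 1) p) 0 (inf_le_left : W ≤ W₁)
      (hz₁.trans (Functor.map_zero _ _ _).symm)
    exact this.trans (Functor.map_zero _ _ _)
  have hz₂' : (Scheme.Modules.restrictFunctor W.ι).map (M.d p (p + 1)) = 0 := by
    have := Spread.map_eq_of_le (M.d p (p + 1)) 0 (inf_le_right : W ≤ W₂)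
      (hz₂.trans (Functor.map_zero _ _ _).symm)
    exact this.trans (Functor.map_zero _ _ _)
  have hW : W ≤ j.opensRange := inf_le_left.trans hW₁
  exact ⟨W, n p, ⟨hx₁, hx₂⟩, BettiConst.nonempty_HD_iso α (p - 1) j h1 hM W hW p (by omega) hz₁' hz₂',
    fun y hy => BettiConst.betti_eq α (p - 1) j h1 h2 hM W hW p (by omega) hz₁' hz₂' hn y hy⟩

theorem conclusion (F : CochainComplex X.Modules ℤ) (p : ℤ)
    (hE : DCoh.IsPseudoCoherentD (p - 1) (DCoh.toD X F)) [DCoh.HasLTensorCx F]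
    [∀ x : X, DCoh.HasLpull (X.fromSpecResidueField x)] (H : ∀ x, Nonempty (TestSeq F p x)) :
    FlatMod.IsFinLocFree (DCoh.HD (DCoh.toD X F) p) ∧
      IsLocallyConstant (fun x : X => PerfD.betti (DCoh.toD X F) x p) := by
  constructor
  · intro x
    obtain ⟨W, n, hx, h1, -⟩ := local_conclusion F p hE x (H x).some
    exact ⟨W, n, hx, h1⟩
  · rw [IsLocallyConstant.iff_exists_open]
    intro x
    obtain ⟨W, n, hx, -, h2⟩ := local_conclusion F p hE x (H x).some
    exact ⟨W, W.isOpen, hx, fun y hy => (h2 y hy).trans (h2 x hx).symm⟩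

/-- The skyscraper test sequence. -/
theorem nonempty_testSeq_sky (F : CochainComplex X.Modules ℤ) [DCoh.HasLTensorCx F] (p : ℤ) (x : X)
    [PreservesFiniteLimits (ExactT.T (DCoh.LTensorCx F) p)]
    [PreservesFiniteColimits (ExactT.T (DCoh.LTensorCx F) p)] : Nonempty (TestSeq F p x) := by
  obtain ⟨w, hw⟩ := QTest.incl_exact (IsLocalRing.maximalIdeal (X.presheaf.stalk x))
  have : PreservesFiniteColimits (skyF x) := (skyF x).preservesFiniteColimits_of_preservesHomology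
  have hS := hw.map_of_exact (skyF x)
  have h1 := hS.mono_f
  have h2 := hS.epi_g
  exact ⟨⟨_, hS, ⟨Arrow.isoMk ((skyStalkIso x).app _) ((skyStalkIso x).app _)
    ((skyStalkIso x).hom.naturality _).symm⟩, inferInstance, inferInstance⟩⟩

/-- The quasi-coherent test sequence. -/
theorem nonempty_testSeq_qcoh [QuasiSeparatedSpace X] (F : CochainComplex X.Modules ℤ)
    [DCoh.HasLTensorCx F] (p : ℤ) (x : X)
    [PreservesFiniteLimits ((QCohCat.isQCoh X).ι ⋙ ExactT.T (DCoh.LTensorCx F) p)]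
    [PreservesFiniteColimits ((QCohCat.isQCoh X).ι ⋙ ExactT.T (DCoh.LTensorCx F) p)] :
    Nonempty (TestSeq F p x) := by
  obtain ⟨S, hS, q1, q2, q3, e⟩ := QTest.exists_test x
  have h1 := hS.mono_f
  have h2 := hS.epi_g
  let A₁ : (QCohCat.isQCoh X).FullSubcategory := ⟨S.X₁, q1⟩
  let A₂ : (QCohCat.isQCoh X).FullSubcategory := ⟨S.X₂, q2⟩
  let A₃ : (QCohCat.isQCoh X).FullSubcategory := ⟨S.X₃, q3⟩
  let f : A₁ ⟶ A₂ := ObjectProperty.homMk S.f
  let g : A₂ ⟶ A₃ := ObjectProperty.homMk S.g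
  have hf : Mono f := (QCohCat.isQCoh X).ι.mono_of_mono_map (inferInstanceAs (Mono S.f))
  have hg : Epi g := (QCohCat.isQCoh X).ι.epi_of_epi_map (inferInstanceAs (Epi S.g))
  exact ⟨⟨S, hS, e,
    inferInstanceAs (Mono (((QCohCat.isQCoh X).ι ⋙ ExactT.T (DCoh.LTensorCx F) p).map f)),
    inferInstanceAs (Epi (((QCohCat.isQCoh X).ι ⋙ ExactT.T (DCoh.LTensorCx F) p).map g))⟩⟩

end K241.ExactFree
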