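import Groth.Prelude.Def_RegImm
import Groth.Agent.Dcoh.PushRestrict
import Groth.Agent.Flat2H.KoszulRes
import Groth.Agent.Cohder.RelPCGraph
import Groth.Agent.PerfC.ClosedImmPc

/-!
# Charts of Koszul-regular immersions

For a morphism `i : Z ⟶ X` and an affine open `U` of `X` over which `i` is a closed immersion with ideal generated by a
Koszul-regular sequence:
* `isPullback_chart`: the cartesian square of spectra;
* `isPerfect_push`: the direct image of the structure sheaf along the chart is perfect;
* `ker_stalkMap`: the kernel of the stalk map;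
* `hasTorAmplitudeIn_quotient`: `A/(l)` has tor amplitude in `[-length l, 0]` (flat-representative form).
-/

set_option autoImplicit false
universe u
open CategoryTheory CategoryTheory.Limits AlgebraicGeometry
attribute [local instance] HasDerivedCategory.standard

namespace K241.KosImm

open Groth.Agent.PerfA.Restrict Groth.Agent.PerfC.ClosedPush Groth.Agent.PerfC.ClosedImmPc
  Groth.Agent.PerfC.PcLocal

section Alg

variable {A : Type u} [CommRing A]

/-- `A/(l)` has tor amplitude in `[-length l, 0]`. -/
theorem hasTorAmplitudeIn_quotient {l : List A} (h : LCI.IsKoszulRegularSeq A l) :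
    DRing.HasTorAmplitudeIn A (-l.length) 0 (Dual.inD A (A ⧸ Ideal.ofList l)) := by
  refine ⟨Koszul.koszul A l, Groth.Agent.Flat2H.KoszulRes.vanishesOutside_koszul l, fun i => ?_, ?_⟩
  · have := (Groth.Agent.Flat2H.KoszulRes.finite_free_koszul_X l i).2
    infer_instance
  · obtain ⟨e⟩ := Groth.Agent.Flat2H.KoszulReg.nonempty_Q_kos_iso_of_kReg
      ((Groth.Agent.Flat2H.KoszulReg.isKoszulRegularSeq_iff l).1 h)
    rw [Groth.Agent.Flat2H.KoszulReg.koszul_eq_kos]
    refine ⟨e ≪≫ DerivedCategory.Q.mapIso ((CochainComplex.singleFunctor _ 0).mapIso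
      (LinearEquiv.toModuleIso (Submodule.quotEquivOfEq (Ideal.ofList l • ⊤ : Submodule A A)
        (Ideal.ofList l) (by simp)))) ≪≫ ?_⟩
    exact ((DerivedCategory.singleFunctorIsoCompQ _ 0).app _).symm

/-- Direct image of the structure sheaf for a surjection with Koszul-regular kernel. -/
theorem isPerfect_push_spec {R S : Type u} [CommRing R] [CommRing S] (φ : R →+* S)
    (hφ : Function.Surjective φ) (rs : List R) (h : LCI.IsKoszulRegularSeq R rs)
    (hk : RingHom.ker φ = Ideal.ofList rs) :
    DCoh.IsPerfect (DCoh.inD _ ((Scheme.Modules.pushforward (Groth.Agent.Cohder.RelPCGraph.sp φ)).obj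
      (Coh.structureModule (Spec (CommRingCat.of S))))) := by
  obtain ⟨e⟩ := Groth.Agent.Cohder.RelPCGraph.nonempty_pushIso φ hφ
  have hlim : PreservesFiniteLimits (tilde.functor (CommRingCat.of R)) :=
    Groth.Agent.PerfB.TildeExact.preservesFiniteLimits_tilde _
  refine Groth.Agent.PerfC.PerfLocal.perf_of_iso ?_
    ((Groth.Agent.S1105.result R (Dual.inD R (R ⧸ RingHom.ker φ))).2
        (by rw [hk]; exact Groth.Agent.Flat2H.KoszulRes.isPerfectModule_quotient h))
  exact Groth.Agent.Cohder.RelPCGraph.tildeSingle (CommRingCat.of R) _ ≪≫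
    (DerivedCategory.singleFunctor _ 0).mapIso e.symm

end Alg

variable {X Z : Scheme.{u}} (i : Z ⟶ X) (U : X.Opens) (hU : IsAffineOpen U)

include hU in
lemma isAffineOpen_preimage (hi : IsClosedImmersion (i ∣_ U)) : IsAffineOpen (i ⁻¹ᵁ U) := by
  have : IsAffine (U : Scheme.{u}) := hU
  exact isAffine_of_isAffineHom (i ∣_ U)

include hU in
lemma app_surjective (hi : IsClosedImmersion (i ∣_ U)) : Function.Surjective (i.app U).hom := by
  have : IsAffine (U : Scheme.{u}) := hU
  have h1 : Function.Surjective (i ∣_ U).appTop :=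
    (IsClosedImmersion.isAffine_surjective_of_isAffine (i ∣_ U)).2
  rw [morphismRestrict_appTop] at h1
  have key : ∀ V : X.Opens, V = U → Function.Surjective (i.app V).hom →
      Function.Surjective (i.app U).hom := by
    rintro V rfl h
    exact h
  refine key _ U.ι_image_top fun s => ?_
  obtain ⟨t, ht⟩ := h1 ((Z.presheaf.map
    (eqToHom (image_morphismRestrict_preimage i U ⊤)).op).hom s)
  refine ⟨t, ?_⟩
  have hinj : Function.Injective (Z.presheaf.map
      (eqToHom (image_morphismRestrict_preimage i U ⊤)).op).hom := by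
    have : IsIso (Z.presheaf.map (eqToHom (image_morphismRestrict_preimage i U ⊤)).op) :=
      inferInstance
    exact (ConcreteCategory.bijective_of_isIso (Z.presheaf.map
      (eqToHom (image_morphismRestrict_preimage i U ⊤)).op)).1
  exact hinj ht

variable (hW : IsAffineOpen (i ⁻¹ᵁ U))

/-- The cartesian square of a chart. -/
lemma isPullback_chart :
    IsPullback hW.fromSpec (Spec.map (i.app U)) i hU.fromSpec := by
  refine (IsOpenImmersion.isPullback _ _ _ _ ?_ ?_).flip
  · have h := IsAffineOpen.SpecMap_appLE_fromSpec i hU hW le_rfl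
    rw [Scheme.Hom.app_eq_appLE]
    exact h.symm
  · rw [IsAffineOpen.opensRange_fromSpec, IsAffineOpen.opensRange_fromSpec]

/-- The restriction of `i_* O_Z` to the chart. -/
noncomputable def restrictPush :
    ((Scheme.Modules.pushforward i).obj (Coh.structureModule Z)).restrict hU.fromSpec ≅
      (Scheme.Modules.pushforward (Spec.map (i.app U))).obj (Coh.structureModule _) :=
  (Groth.Agent.Dcoh.PushRestrict.pushRestrictIsoOfIsPullback i (Spec.map (i.app U)) hW.fromSpec
      hU.fromSpec (isPullback_chart i U hU hW)).app _ ≪≫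
    (Scheme.Modules.pushforward (Spec.map (i.app U))).mapIso (Scheme.Modules.restrictUnitIso _)

include hU hW in
/-- Stalkwise kernel, on a chart. -/
theorem ker_stalkMap (hs : Function.Surjective (i.app U).hom) (z : Z) (hz : i z ∈ U) :
    RingHom.ker (i.stalkMap z).hom =
      (RingHom.ker (i.app U).hom).map (X.presheaf.germ U (i z) hz).hom := by
  apply le_antisymm
  · intro a ha
    let := X.presheaf.algebra_section_stalk ⟨i z, hz⟩
    have := hU.isLocalization_stalk ⟨i z, hz⟩
    let := Z.presheaf.algebra_section_stalk (U := i ⁻¹ᵁ U) ⟨z, hz⟩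
    have := hW.isLocalization_stalk ⟨z, hz⟩
    obtain ⟨⟨b, s⟩, hbs⟩ := IsLocalization.surj (hU.primeIdealOf ⟨i z, hz⟩).asIdeal.primeCompl a
    have h1 : (Z.presheaf.germ (i ⁻¹ᵁ U) z hz).hom ((i.app U).hom b) = 0 := by
      rw [← Scheme.Hom.germ_stalkMap_apply]
      have h2 := congr((i.stalkMap z).hom $hbs)
      rw [map_mul, RingHom.mem_ker.mp ha, zero_mul] at h2
      exact h2.symm
    obtain ⟨⟨c, hc⟩, hcb⟩ := (IsLocalization.map_eq_zero_iff
      (hW.primeIdealOf ⟨z, hz⟩).asIdeal.primeCompl (Z.presheaf.stalk z) _).mp h1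
    obtain ⟨d, rfl⟩ := hs c
    have hd : IsUnit ((X.presheaf.germ U (i z) hz).hom d) := by
      have h3 := IsLocalization.map_units (Z.presheaf.stalk z)
        (⟨(i.app U).hom d, hc⟩ : (hW.primeIdealOf ⟨z, hz⟩).asIdeal.primeCompl)
      have h4 : IsUnit ((i.stalkMap z).hom ((X.presheaf.germ U (i z) hz).hom d)) := by
        have := Scheme.Hom.germ_stalkMap_apply i U z hz d
        change (i.stalkMap z).hom ((X.presheaf.germ U (i z) hz).hom d) = _ at this
        rw [this]
        exact h3
      exact isUnit_of_map_unit (i.stalkMap z).hom _ h4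
    have hdb : d * b ∈ RingHom.ker (i.app U).hom := by
      rw [RingHom.mem_ker, map_mul]
      exact hcb
    have h5 := Ideal.mem_map_of_mem (X.presheaf.germ U (i z) hz).hom hdb
    rw [map_mul] at h5
    have h6 := (Ideal.unit_mul_mem_iff_mem _ hd).1 h5
    have h7 : IsUnit ((X.presheaf.germ U (i z) hz).hom (s : Γ(X, U))) :=
      IsLocalization.map_units (X.presheaf.stalk (i z)) s
    have h8 : a * (X.presheaf.germ U (i z) hz).hom (s : Γ(X, U)) =
      (X.presheaf.germ U (i z) hz).hom b := hbs
    rw [← h8] at h6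
    exact (Ideal.mul_unit_mem_iff_mem _ h7).1 h6
  · rw [Ideal.map_le_iff_le_comap]
    intro a ha
    rw [Ideal.mem_comap, RingHom.mem_ker]
    have := Scheme.Hom.germ_stalkMap_apply i U z hz a
    refine Eq.trans this ?_
    rw [RingHom.mem_ker] at ha
    change (Z.presheaf.germ (i ⁻¹ᵁ U) z hz).hom ((i.app U).hom a) = 0
    rw [ha, map_zero]

end K241.KosImm
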