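import Groth.Agent.KSix.K241.PointTest
import Groth.Agent.Dcoh.KFlatMod

/-!
# Left exactness of `N ↦ H^i(N ⊗ᴸ F)` near a point

`preservesFiniteLimits_of_d_eq_zero`: if the differential `M^{i-1} ⟶ M^i` of an approximation of `F` is zero on an open
`W`, the functor `N ↦ H^i(N ⊗ᴸ F|_W)` on `O_W`-modules is left exact.
-/

set_option autoImplicit false
universe u
open CategoryTheory CategoryTheory.Limits HomologicalComplex AlgebraicGeometry
attribute [local instance] HasDerivedCategory.standard

open DCoh Groth.Agent.PerfC.DTens Groth.Agent.Dcoh Groth.Agent.Dcoh.LocalD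

namespace K241.LeftExact

variable {X : Scheme.{u}}

lemma mono_tensor_of_flat {N N' : X.Modules} (f : N ⟶ N') [Mono f] {G : X.Modules}
    (hG : FlatMod.IsFlat G) : Mono (((DCoh.tensorBi (X := X)).map f).app G) := by
  have := KFlatMod.preservesHomology_flip G hG
  have : PreservesFiniteLimits ((DCoh.tensorBi (X := X)).flip.obj G) :=
    ((DCoh.tensorBi (X := X)).flip.obj G).preservesFiniteLimits_of_preservesHomology
  exact inferInstanceAs (Mono (((DCoh.tensorBi (X := X)).flip.obj G).map f))

section Restrict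

variable {U : Scheme.{u}} (j : U ⟶ X) [IsOpenImmersion j] (W : X.Opens) (hW : W ≤ j.opensRange)

/-- The inclusion of an open contained in the range of `j`. -/
noncomputable def liftW : (W : Scheme.{u}) ⟶ U :=
  IsOpenImmersion.lift j W.ι (by
    rw [Scheme.Opens.range_ι]
    exact hW)

lemma liftW_fac : liftW j W hW ≫ j = W.ι := IsOpenImmersion.lift_fac _ _ _

instance : IsOpenImmersion (liftW j W hW) := by
  have : IsOpenImmersion (liftW j W hW ≫ j) := by rw [liftW_fac]; infer_instance
  exact IsOpenImmersion.of_comp (liftW j W hW) j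

include hW in
lemma isIso_restrict {K L : DCoh.D X} (α : K ⟶ L) (i : ℤ)
    (h : IsIso ((DerivedCategory.homologyFunctor _ i).map ((DCoh.restrictD j).map α))) :
    IsIso ((DerivedCategory.homologyFunctor _ i).map ((DCoh.restrictD W.ι).map α)) := by
  have h1 := MapDer.isIso_homology_map (Scheme.Modules.restrictFunctor (liftW j W hW))
    ((DCoh.restrictD j).map α) i h
  have h2 := NatIso.isIso_map_iff (Functor.isoWhiskerRight (restrictCompEq (liftW_fac j W hW))
    (DerivedCategory.homologyFunctor _ i)) α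
  exact h2.1 h1

include hW in
lemma epi_restrict {K L : DCoh.D X} (α : K ⟶ L) (i : ℤ)
    (h : Epi ((DerivedCategory.homologyFunctor _ i).map ((DCoh.restrictD j).map α))) :
    Epi ((DerivedCategory.homologyFunctor _ i).map ((DCoh.restrictD W.ι).map α)) := by
  have h1 := MapDer.epi_homology_map (Scheme.Modules.restrictFunctor (liftW j W hW))
    ((DCoh.restrictD j).map α) i h
  let e := Functor.isoWhiskerRight (restrictCompEq (liftW_fac j W hW))
    (DerivedCategory.homologyFunctor _ i)
  obtain ⟨e'⟩ := BifT.arrow_of_sq _ _ (e.hom.app K) (e.hom.app L) (NatIso.hom_app_isIso _ _)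
    (NatIso.hom_app_isIso _ _) (e.hom.naturality α)
  exact ((MorphismProperty.epimorphisms _).arrow_mk_iso_iff e').1 h1

end Restrict

/-- The approximation restricted to an open. -/
noncomputable def restrictα {M F : CochainComplex X.Modules ℤ} (W : X.Opens)
    (α : DerivedCategory.Q.obj M ⟶ DerivedCategory.Q.obj F) :
    DerivedCategory.Q.obj ((DCoh.restrictCx W).obj M) ⟶
      DerivedCategory.Q.obj ((DCoh.restrictCx W).obj F) :=
  (QRestrict W.ι M).inv ≫ (DCoh.restrictD W.ι).map α ≫ (QRestrict W.ι F).hom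

lemma isIso_restrictα {M F : CochainComplex X.Modules ℤ} (W : X.Opens)
    (α : DerivedCategory.Q.obj M ⟶ DerivedCategory.Q.obj F) (i : ℤ)
    (h : IsIso ((DerivedCategory.homologyFunctor _ i).map ((DCoh.restrictD W.ι).map α))) :
    IsIso ((DerivedCategory.homologyFunctor _ i).map (restrictα W α)) := by
  rw [restrictα, Functor.map_comp, Functor.map_comp]
  infer_instance

lemma epi_restrictα {M F : CochainComplex X.Modules ℤ} (W : X.Opens)
    (α : DerivedCategory.Q.obj M ⟶ DerivedCategory.Q.obj F) (i : ℤ)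
    (h : Epi ((DerivedCategory.homologyFunctor _ i).map ((DCoh.restrictD W.ι).map α))) :
    Epi ((DerivedCategory.homologyFunctor _ i).map (restrictα W α)) := by
  rw [restrictα, Functor.map_comp, Functor.map_comp]
  infer_instance

/-- If the differential `M^{i-1} ⟶ M^i` is zero on `W`, the functor `N ↦ H^i(N ⊗ᴸ F|_W)` is left exact. -/
theorem preservesFiniteLimits_of_d_eq_zero {F M : CochainComplex X.Modules ℤ} {a b : ℤ}
    (hflat : ∀ i, FlatMod.IsFlat (M.X i)) (hb : ∀ i, i < a ∨ b < i → IsZero (M.X i))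
    (α : DerivedCategory.Q.obj M ⟶ DerivedCategory.Q.obj F) (m : ℤ) {U : Scheme.{u}} (j : U ⟶ X)
    [IsOpenImmersion j]
    (h1 : ∀ i : ℤ, m < i → IsIso ((DerivedCategory.homologyFunctor _ i).map
      ((DCoh.restrictD j).map α)))
    (h2 : Epi ((DerivedCategory.homologyFunctor _ m).map ((DCoh.restrictD j).map α)))
    (W : X.Opens) (hW : W ≤ j.opensRange) (i : ℤ) (hi : m < i)
    (hd : (Scheme.Modules.restrictFunctor W.ι).map (M.d (i - 1) i) = 0)
    [DCoh.HasLTensorCx ((DCoh.restrictCx W).obj F)] :
    PreservesFiniteLimits (ExactT.T (DCoh.LTensorCx ((DCoh.restrictCx W).obj F)) i) := by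
  rw [ExactT.preservesFiniteLimits_iff (SchBif.isTriang _)]
  intro S hS
  have hflat' : ∀ i, FlatMod.IsFlat (((DCoh.restrictCx W).obj M).X i) := fun i =>
    StalkRestrict.isFlat_restrict W.ι (hflat i)
  have hb' : ∀ i, i < a ∨ b < i → IsZero (((DCoh.restrictCx W).obj M).X i) := fun i hi =>
    (Scheme.Modules.restrictFunctor W.ι).map_isZero (hb i hi)
  have hK := PointTest.isKFlat_of_flat hflat' hb'
  rw [SchBif.mono_T_iff hK (restrictα W α) m
    (fun i hi => isIso_restrictα W α i (isIso_restrict j W hW α i (h1 i hi)))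
    (epi_restrictα W α m (epi_restrict j W hW α m h2)) i hi]
  have := hS.mono_f
  have := mono_tensor_of_flat S.f (hflat' i)
  exact BifT.mono_tcMap (DCoh.tensorBi (X := (W : Scheme.{u}))) S.f _ (i - 1) i (by omega) hd

end K241.LeftExact
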