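import Groth.Agent.KSix.K241.SchBif
import Groth.Agent.PerfC.ExtZeroD
import Groth.Agent.PerfB.Betti
import Groth.Agent.PerfB.StalkKFlat

/-!
# Minimal approximations of pseudo-coherent complexes, extended by zero

`exists_model`: an `m`-pseudo-coherent `E` receives near `x` a map `α : Q M ⟶ E` from a bounded complex `M` of flat
modules on `X` which is termwise finite free near `x`, whose differentials vanish at `x`, and such that over an open
neighbourhood `α` is an isomorphism in degrees `> m` and an epimorphism in degree `m`.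
-/

set_option autoImplicit false
universe u
open CategoryTheory CategoryTheory.Limits HomologicalComplex AlgebraicGeometry
attribute [local instance] HasDerivedCategory.standard

open DCoh Groth.Agent.PerfC Groth.Agent.PerfC.ExtZeroD Groth.Agent.PerfB.MinModel Groth.Agent.PerfA.Restrict
open Groth.Agent.Dcoh Groth.Agent.Dcoh.Stalk

namespace K241.Model

lemma map_eq_zero_of_iso {C D : Type*} [Category* C] [Category* D] [HasZeroMorphisms D]
    {F G : C ⥤ D} (e : F ≅ G) {X Y : C} (f : X ⟶ Y) (h : G.map f = 0) : F.map f = 0 := by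
  rw [← cancel_mono (e.hom.app Y), e.hom.naturality, h, comp_zero, zero_comp]

variable {X U : Scheme.{u}} (j : U ⟶ X) [IsOpenImmersion j]

/-- Extensions by zero of flat modules are flat. -/
theorem isFlat_jShriek {M : U.Modules} (hM : FlatMod.IsFlat M) :
    FlatMod.IsFlat ((ExtZero.jShriek j).obj M) := by
  intro x
  by_cases hx : x ∈ Set.range j
  · obtain ⟨y, rfl⟩ := hx
    rw [← StalkRestrict.isFlatAt_restrict_iff]
    exact FlatRes.isFlat_of_iso ((ExtZero.unitIso j).app M) hM y
  · rw [FlatRes.isFlatAt_iff]
    have h1 : x ∉ CohB1.support ((ExtZero.jShriek j).obj M) := fun h =>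
      hx (support_subset_of_suppIn (ExtZero.suppIn_jShriek j M) h)
    have h2 : Subsingleton ((stalkF x).obj ((ExtZero.jShriek j).obj M)) :=
      (Groth.Agent.CohqB.DevSupport.subsingleton_iff_isZero _).2
        ((Groth.Agent.CohqB.DevSupport.not_mem_support_iff_isZero _ _).1 h1)
    infer_instance

/-- The differentials of `j_! M` vanish at the points of `U` at which those of `M` do. -/
theorem pullback_shriek_map_eq_zero (x : X) (u₀ : U) (hu : j u₀ = x) {M : CochainComplex U.Modules ℤ}
    (hM : MinimalAt u₀ M) : MinimalAt x (((ExtZero.jShriek j).mapHomologicalComplex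
      (ComplexShape.up ℤ)).obj M) := by
  intro i
  have hx : x ∈ Set.range j := ⟨u₀, hu⟩
  have h1 := Groth.Agent.PerfB.Betti.pullback_d_eq_zero x j u₀ hu hx hM i
  have e : ExtZero.jShriek j ⋙ Scheme.Modules.pullback (X.fromSpecResidueField x) ≅
      Scheme.Modules.pullback (Groth.Agent.PerfB.Betti.lift x j hx) :=
    Functor.isoWhiskerLeft _ (eqToIso (congrArg Scheme.Modules.pullback
      (Groth.Agent.PerfB.Betti.lift_fac x j hx).symm) ≪≫
        (Scheme.Modules.pullbackComp (Groth.Agent.PerfB.Betti.lift x j hx) j).symm) ≪≫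
      (Functor.associator _ _ _).symm ≪≫
      Functor.isoWhiskerRight (Functor.isoWhiskerLeft _
        (Scheme.Modules.restrictFunctorIsoPullback j).symm ≪≫ (ExtZero.unitIso j).symm) _ ≪≫
      Functor.leftUnitor _
  exact map_eq_zero_of_iso e (M.d i (i + 1)) h1

/-- A pseudo-coherent complex has a minimal model near every point, extended by zero. -/
theorem exists_model (m : ℤ) (E : DCoh.D X) (hE : DCoh.IsPseudoCoherentD m E) (x : X) :
    ∃ (U : Scheme.{u}) (j : U ⟶ X) (_ : IsOpenImmersion j) (_ : x ∈ Set.range j)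
      (M : CochainComplex X.Modules ℤ) (n : ℤ → ℕ) (a b : ℤ) (α : DerivedCategory.Q.obj M ⟶ E),
      (∀ i, FlatMod.IsFlat (M.X i)) ∧ (∀ i, i < a ∨ b < i → IsZero (M.X i)) ∧ MinimalAt x M ∧
        (∀ i, Nonempty ((M.X i).restrict j ≅ FlatMod.freeMod U (n i))) ∧
        (∀ i, i < a ∨ b < i → n i = 0) ∧
        (∀ i : ℤ, m < i → IsIso ((DerivedCategory.homologyFunctor _ i).map
          ((Groth.Agent.PerfA.Restrict.restrictD j).map α))) ∧
        Epi ((DerivedCategory.homologyFunctor _ m).map
          ((Groth.Agent.PerfA.Restrict.restrictD j).map α)) := by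
  obtain ⟨U, j, hj, u₀, hu₀, M', n, a, b, α', hM, hn, hmin, h1, h2⟩ :=
    Groth.Agent.PerfB.Betti.exists_model_pc m E hE x
  have e0 : ∀ i, IsZero (M'.X i) ∨ ¬ (i < a ∨ b < i) := fun i => by
    by_cases h : i < a ∨ b < i
    · left
      have e := (hM i).some
      rw [hn i h] at e
      exact (isZero_freeMod_zero U).of_iso e
    · right; exact h
  let β := (ExtZero.jShriek j).mapDerivedCategoryFactors.app M'
  let γ : (shriekD j).obj (DerivedCategory.Q.obj M') ⟶ E :=
    (shriekD j).map α' ≫ (adjunction j).counit.app E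
  have key : (adjunction j).unit.app (DerivedCategory.Q.obj M') ≫
      (Groth.Agent.PerfA.Restrict.restrictD j).map γ = α' := by
    rw [Functor.map_comp, ← Category.assoc]
    have h3 := (adjunction j).unit.naturality α'
    rw [Functor.id_map, Functor.comp_map] at h3
    rw [← h3, Category.assoc, (adjunction j).right_triangle_components]
    exact Category.comp_id _
  have key' : (Groth.Agent.PerfA.Restrict.restrictD j).map γ =
      inv ((adjunction j).unit.app (DerivedCategory.Q.obj M')) ≫ α' := by
    rw [← key, IsIso.inv_hom_id_assoc]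
  refine ⟨U, j, hj, ⟨u₀, hu₀⟩, ((ExtZero.jShriek j).mapHomologicalComplex (ComplexShape.up ℤ)).obj M',
    n, a, b, β.inv ≫ γ, fun i => ?_, fun i hi => ?_, pullback_shriek_map_eq_zero j x u₀ hu₀ hmin,
    fun i => ⟨((ExtZero.unitIso j).app (M'.X i)).symm ≪≫ (hM i).some⟩, hn, fun i hi => ?_, ?_⟩
  · exact isFlat_jShriek j (Groth.Agent.PerfB.Betti.isFlat_of_termsFree hM i)
  · exact (ExtZero.jShriek j).map_isZero ((e0 i).resolve_right (fun h => h hi))
  · have := h1 i hi
    rw [Functor.map_comp, key', Functor.map_comp, Functor.map_comp]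
    infer_instance
  · have : Epi ((DerivedCategory.homologyFunctor U.Modules m).map α') := h2
    rw [Functor.map_comp, key', Functor.map_comp, Functor.map_comp]
    infer_instance

end K241.Model
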