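import Groth.Agent.KSix.K241.BifT
import Groth.Agent.LoccohB.HClass
import Groth.Agent.PerfB.RingKFlat
import Mathlib.RingTheory.Nakayama
import Mathlib.RingTheory.LocalRing.MaximalIdeal.Basic

/-!
# Vanishing of the differential of a minimal complex over a local ring

`d_eq_zero_of_mono`: let `M` be a complex of modules over a local ring `R` whose differential
`M^{i-1} ⟶ M^i` has its image in `𝔪 M^i`.  If `H^i(𝔪 ⊗ M) ⟶ H^i(R ⊗ M)` is injective, this differential is zero.
-/

set_option autoImplicit false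
universe u
open CategoryTheory CategoryTheory.Limits MonoidalCategory HomologicalComplex

open Groth.Agent.PerfB.RingKFlat Groth.Agent.LoccohB.HClass TensorProduct

namespace K241.RingCore

variable {R : Type u} [CommRing R]

/-- The inclusion of an ideal. -/
abbrev incl (I : Ideal R) : ModuleCat.of R I ⟶ ModuleCat.of R R := ModuleCat.ofHom I.subtype

/-- `I ⊗ M → M`. -/
noncomputable def mu (I : Ideal R) (M : Type u) [AddCommGroup M] [Module R M] : I ⊗[R] M →ₗ[R] M :=
  (TensorProduct.lid R M).toLinearMap ∘ₗ I.subtype.rTensor M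

lemma mu_tmul (I : Ideal R) {M : Type u} [AddCommGroup M] [Module R M] (r : I) (m : M) :
    mu I M (r ⊗ₜ m) = (r : R) • m := by
  simp [mu]

lemma mu_injective (I : Ideal R) (M : Type u) [AddCommGroup M] [Module R M] [Module.Flat R M] :
    Function.Injective (mu I M) :=
  (TensorProduct.lid R M).injective.comp
    (Module.Flat.rTensor_preserves_injective_linearMap I.subtype I.subtype_injective)

lemma mu_mem (I : Ideal R) {M : Type u} [AddCommGroup M] [Module R M] (z : I ⊗[R] M) :
    mu I M z ∈ I • (⊤ : Submodule R M) := by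
  induction z using TensorProduct.induction_on with
  | zero => rw [map_zero]; exact zero_mem _
  | tmul r m => rw [mu_tmul]; exact Submodule.smul_mem_smul r.2 trivial
  | add x y hx hy => rw [map_add]; exact add_mem hx hy

lemma exists_mu (I : Ideal R) {M : Type u} [AddCommGroup M] [Module R M] {v : M}
    (hv : v ∈ I • (⊤ : Submodule R M)) : ∃ z : I ⊗[R] M, mu I M z = v := by
  induction hv using Submodule.smul_induction_on' with
  | smul r hr n hn => exact ⟨(⟨r, hr⟩ : I) ⊗ₜ n, mu_tmul _ _ _⟩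
  | add x hx y hy h1 h2 =>
    obtain ⟨z, rfl⟩ := h1
    obtain ⟨z', rfl⟩ := h2
    exact ⟨z + z', map_add _ _ _⟩

lemma mu_lTensor (I : Ideal R) {M N : Type u} [AddCommGroup M] [Module R M] [AddCommGroup N]
    [Module R N] (f : M →ₗ[R] N) (z : I ⊗[R] M) : mu I N (f.lTensor I z) = f (mu I M z) := by
  induction z using TensorProduct.induction_on with
  | zero => simp
  | tmul r m => simp [mu_tmul]
  | add x y hx hy => simp [hx, hy]

/-- If `H^i(I ⊗ M) ⟶ H^i(R ⊗ M)` is injective then boundaries which lie in `I M^i` are boundaries of elements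
of `I M^{i-1}`. -/
theorem exists_mem_smul_of_mono (I : Ideal R) (M : CochainComplex (ModuleCat.{u} R) ℤ) (i : ℤ)
    [Module.Flat R (M.X (i + 1))]
    (hmono : Mono (homologyMap (BifT.tcMap (TR R) (incl I) M) i)) (y : M.X (i - 1))
    (hy : M.d (i - 1) i y ∈ I • (⊤ : Submodule R (M.X i))) :
    ∃ w ∈ I • (⊤ : Submodule R (M.X (i - 1))), ∃ z : I ⊗[R] M.X i,
      mu I (M.X i) z = M.d (i - 1) i y ∧ mu I (M.X i) z = M.d (i - 1) i w := by
  obtain ⟨z, hz⟩ := exists_mu I hy
  have hd : (BifT.tc (TR R) (ModuleCat.of R I) M).d i (i + 1) z = 0 := by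
    apply mu_injective I (M.X (i + 1))
    change mu I (M.X (i + 1)) ((M.d i (i + 1)).hom.lTensor I z) = mu I (M.X (i + 1)) 0
    rw [mu_lTensor, hz, map_zero]
    change (M.d (i - 1) i ≫ M.d i (i + 1)) y = 0
    rw [M.d_comp_d]
    rfl
  let c : LinearMap.ker ((BifT.tc (TR R) (ModuleCat.of R I) M).d i (i + 1)).hom := ⟨z, hd⟩
  have h1 : hcl _ i c = 0 := by
    apply (ModuleCat.mono_iff_injective _).1 hmono
    rw [map_zero]
    refine (homologyMap_hcl _ _).trans ?_
    rw [hcl_eq_zero_iff]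
    refine ⟨(1 : R) ⊗ₜ[R] y, ?_⟩
    change (M.d (i - 1) i).hom.lTensor R ((1 : R) ⊗ₜ[R] y) = I.subtype.rTensor (M.X i) z
    apply (TensorProduct.lid R (M.X i)).injective
    rw [LinearMap.lTensor_tmul, TensorProduct.lid_tmul, one_smul]
    exact hz.symm
  rw [hcl_eq_zero_iff] at h1
  obtain ⟨w, hw⟩ := h1
  have hw' : (M.d (i - 1) i).hom.lTensor I w = z := hw
  refine ⟨mu I _ w, mu_mem I _, z, hz, ?_⟩
  rw [← hw', mu_lTensor]

/-- Nakayama. -/
theorem d_eq_zero_of_mono [IsLocalRing R] (M : CochainComplex (ModuleCat.{u} R) ℤ) (i : ℤ)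
    [Module.Flat R (M.X (i + 1))] [Module.Finite R (M.X (i - 1))]
    (hmin : ∀ y : M.X (i - 1), M.d (i - 1) i y ∈
      IsLocalRing.maximalIdeal R • (⊤ : Submodule R (M.X i)))
    (hmono : Mono (homologyMap (BifT.tcMap (TR R) (incl (IsLocalRing.maximalIdeal R)) M) i)) :
    M.d (i - 1) i = 0 := by
  have h1 : LinearMap.range (M.d (i - 1) i).hom ≤
      IsLocalRing.maximalIdeal R • LinearMap.range (M.d (i - 1) i).hom := by
    rintro _ ⟨y, rfl⟩
    obtain ⟨w, hw, z, hz, hz'⟩ := exists_mem_smul_of_mono _ M i hmono y (hmin y)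
    have h2 : (M.d (i - 1) i).hom y = (M.d (i - 1) i).hom w := hz.symm.trans hz'
    rw [h2, LinearMap.range_eq_map, ← Submodule.map_smul'']
    exact Submodule.mem_map_of_mem hw
  have h2 : (LinearMap.range (M.d (i - 1) i).hom).FG := by
    rw [LinearMap.range_eq_map]
    exact Submodule.FG.map _ Module.Finite.fg_top
  have h3 := Submodule.eq_bot_of_le_smul_of_le_jacobson_bot _ _ h2 h1
    (IsLocalRing.maximalIdeal_le_jacobson _)
  ext y
  have h4 : (M.d (i - 1) i).hom y ∈ LinearMap.range (M.d (i - 1) i).hom := ⟨y, rfl⟩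
  rw [h3] at h4
  exact h4

end K241.RingCore
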