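import Groth.Agent.PerfB.StalkKFlat
import Groth.Agent.PerfB.MinModel
import Groth.Agent.Dcoh.Spread
import Groth.Agent.Dcoh.StalkRes

/-!
# Complexes at a point: minimality and spreading out

* `free_stalkF`, `finite_stalkF`: stalks of modules which are finite free near a point;
* `stalkF_map_mem`: if the pullback of `φ` to `Spec κ(x)` is zero and the stalk of the target at `x` is free, the
  image of `φ_x` is contained in `𝔪_x`-multiples;
* `exists_opens_map_eq_zero`: a morphism out of a finite free module whose stalk vanishes at a point vanishes nearby.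
-/

set_option autoImplicit false
universe u
open CategoryTheory CategoryTheory.Limits HomologicalComplex AlgebraicGeometry

open Groth.Agent.Dcoh Groth.Agent.Dcoh.Stalk Groth.Agent.Dcoh.StalkMod Groth.Agent.CycB.StalkExact TensorProduct

namespace K241.StalkPt

variable {X : Scheme.{u}}

lemma map_eq_zero_of_iso {C D : Type*} [Category* C] [Category* D] [HasZeroMorphisms D]
    {F G : C ⥤ D} (e : F ≅ G) {X Y : C} (f : X ⟶ Y) (h : G.map f = 0) : F.map f = 0 := by
  rw [← cancel_mono (e.hom.app Y), e.hom.naturality, h, comp_zero, zero_comp]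

lemma stalkF_map_lin {M N : X.Modules} (φ : M ⟶ N) (x : X) (t : M.presheaf.stalk x) :
    ((stalkF x).map φ).hom t = stalkLin φ x t := by
  obtain ⟨U, hU, s, rfl⟩ := TopCat.Presheaf.exists_germ_eq M.presheaf t
  rw [stalkLin_germ]
  exact Groth.Agent.Dcoh.FlatTor.stalkF_map_germ x φ U hU s

section Free

variable {U : Scheme.{u}} (j : U ⟶ X) [IsOpenImmersion j] {M : X.Modules} {n : ℕ}

theorem free_stalkF (e : Nonempty (M.restrict j ≅ FlatMod.freeMod U n)) {x : X}
    (hx : x ∈ Set.range j) : Module.Free (X.presheaf.stalk x) ((stalkF x).obj M) := by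
  obtain ⟨y, rfl⟩ := hx
  obtain ⟨e⟩ := e
  change Module.Free (X.presheaf.stalk (j y)) (M.presheaf.stalk (j y))
  rw [← StalkRes.free_restrict_iff]
  have := FreeSec.free_stalk_free n y
  exact Module.Free.of_equiv (stalkLinEquiv e y).symm

theorem finite_stalkF (e : Nonempty (M.restrict j ≅ FlatMod.freeMod U n)) {x : X}
    (hx : x ∈ Set.range j) : Module.Finite (X.presheaf.stalk x) ((stalkF x).obj M) := by
  obtain ⟨y, rfl⟩ := hx
  obtain ⟨e⟩ := e
  change Module.Finite (X.presheaf.stalk (j y)) (M.presheaf.stalk (j y))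
  rw [← StalkRes.finite_restrict_iff]
  have := FreeSec.finite_stalk_free n y
  exact Module.Finite.equiv (stalkLinEquiv e y).symm

end Free

section Minimal

lemma mem_smul_of_one_tmul {A B : Type u} [CommRing A] [IsLocalRing A] [CommRing B] [Nontrivial B]
    [Algebra A B] {N : Type u} [AddCommGroup N] [Module A N] [Module.Free A N] (v : N)
    (h : (1 : B) ⊗ₜ[A] v = 0) : v ∈ IsLocalRing.maximalIdeal A • (⊤ : Submodule A N) := by
  let b := Module.Free.chooseBasis A N
  have h1 : ∀ i, algebraMap A B (b.repr v i) = 0 := by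
    intro i
    have h2 := congrArg (fun w => (b.baseChange B).repr w i) h
    simpa [Module.Basis.baseChange_repr_tmul, Algebra.algebraMap_eq_smul_one] using h2
  rw [← b.linearCombination_repr v, Finsupp.linearCombination_apply, Finsupp.sum]
  refine Submodule.sum_mem _ fun i _ => Submodule.smul_mem_smul ?_ trivial
  rw [IsLocalRing.mem_maximalIdeal, mem_nonunits_iff]
  intro hu
  have h3 := hu.map (algebraMap A B)
  rw [h1 i] at h3
  exact not_isUnit_zero h3

variable {Y : Scheme.{u}} (f : Y ⟶ X)

theorem stalkMap_mem {M N : X.Modules} (φ : M ⟶ N) (y : Y)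
    (h : (Scheme.Modules.pullback f).map φ = 0)
    (hN : Module.Free (X.presheaf.stalk (f.base y)) ((stalkF (f.base y)).obj N))
    (t : (stalkF (f.base y)).obj M) : ((stalkF (f.base y)).map φ).hom t ∈
      IsLocalRing.maximalIdeal (X.presheaf.stalk (f.base y)) •
        (⊤ : Submodule (X.presheaf.stalk (f.base y)) ((stalkF (f.base y)).obj N)) := by
  let _ := Groth.Agent.Fdesc.PullbackStalk.stalkAlg f y
  have h1 := (Groth.Agent.PerfB.StalkKFlat.stalkPull f y).hom.naturality φ
  have h2 : (Groth.Agent.PerfB.RingKFlat.ext (X.presheaf.stalk (f.base y))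
      (Y.presheaf.stalk y)).map ((stalkF (f.base y)).map φ) = 0 := by
    rw [← cancel_mono ((Groth.Agent.PerfB.StalkKFlat.stalkPull f y).hom.app N)]
    refine h1.trans ?_
    rw [Functor.comp_map, h, Functor.map_zero, comp_zero, zero_comp]
  have h3 := congrArg (fun (g : (Groth.Agent.PerfB.RingKFlat.ext (X.presheaf.stalk (f.base y))
    (Y.presheaf.stalk y)).obj ((stalkF (f.base y)).obj M) ⟶
      (Groth.Agent.PerfB.RingKFlat.ext (X.presheaf.stalk (f.base y))
    (Y.presheaf.stalk y)).obj ((stalkF (f.base y)).obj N)) =>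
      g.hom ((1 : Y.presheaf.stalk y) ⊗ₜ[X.presheaf.stalk (f.base y)] t)) h2
  exact mem_smul_of_one_tmul (B := Y.presheaf.stalk y) _ h3

/-- If the pullback of `φ` to `Spec κ(x)` is zero, the image of `φ_x` consists of `𝔪_x`-multiples. -/
theorem stalkF_map_mem {M N : X.Modules} (φ : M ⟶ N) (x : X)
    (h : (Scheme.Modules.pullback (X.fromSpecResidueField x)).map φ = 0)
    (hN : Module.Free (X.presheaf.stalk x) ((stalkF x).obj N)) (t : (stalkF x).obj M) :
    ((stalkF x).map φ).hom t ∈ IsLocalRing.maximalIdeal (X.presheaf.stalk x) •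
      (⊤ : Submodule (X.presheaf.stalk x) ((stalkF x).obj N)) := by
  have key : ∀ x' : X, (X.fromSpecResidueField x).base
      (IsLocalRing.closedPoint (X.residueField x)) = x' →
      ∀ (hN : Module.Free (X.presheaf.stalk x') ((stalkF x').obj N)) (t : (stalkF x').obj M),
    ((stalkF x').map φ).hom t ∈ IsLocalRing.maximalIdeal (X.presheaf.stalk x') •
      (⊤ : Submodule (X.presheaf.stalk x') ((stalkF x').obj N)) := by
    rintro _ rfl hN t
    exact stalkMap_mem (X.fromSpecResidueField x) φ _ h hN t
  exact key x (Scheme.fromSpecResidueField_apply x _) hN t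

end Minimal

section Spread

/-- A morphism out of a finite free module whose stalk vanishes at a point vanishes nearby. -/
theorem exists_opens_map_eq_zero {U : Scheme.{u}} (j : U ⟶ X) [IsOpenImmersion j] {M N : X.Modules}
    {n : ℕ} (e : Nonempty (M.restrict j ≅ FlatMod.freeMod U n)) {x : X} (hx : x ∈ Set.range j)
    (φ : M ⟶ N) (h : (stalkF x).map φ = 0) :
    ∃ W : X.Opens, x ∈ W ∧ W ≤ j.opensRange ∧ (Scheme.Modules.restrictFunctor W.ι).map φ = 0 := by
  obtain ⟨y, rfl⟩ := hx
  obtain ⟨e⟩ := e
  have h1 : stalkLin ((Scheme.Modules.restrictFunctor j).map φ) y =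
      stalkLin (0 : M.restrict j ⟶ N.restrict j) y := by
    ext m
    rw [stalkLin_zero, LinearMap.zero_apply]
    apply (StalkRestrict.ρ j N y).injective
    rw [StalkRestrict.ρ_naturality, map_zero, ← stalkF_map_lin, h]
    rfl
  obtain ⟨W, hyW, hW⟩ := Spread.exists_map_eq_free' e _ _ y h1
  refine ⟨j ''ᵁ W, ⟨y, hyW, rfl⟩, j.image_le_opensRange W, ?_⟩
  have hk : (j.isoImage W).inv ≫ W.ι ≫ j = (j ''ᵁ W).ι := j.isoImage_inv_ι W
  let e' : Scheme.Modules.restrictFunctor (j ''ᵁ W).ι ≅
      (Scheme.Modules.restrictFunctor j ⋙ Scheme.Modules.restrictFunctor W.ι) ⋙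
        Scheme.Modules.restrictFunctor (j.isoImage W).inv :=
    Scheme.Modules.restrictFunctorCongr hk.symm ≪≫
      Scheme.Modules.restrictFunctorComp (j.isoImage W).inv (W.ι ≫ j) ≪≫
      Functor.isoWhiskerRight (Scheme.Modules.restrictFunctorComp W.ι j) _
  refine map_eq_zero_of_iso e' φ ?_
  rw [Functor.comp_map, Functor.comp_map, hW, Functor.map_zero, Functor.map_zero]

end Spread

end K241.StalkPt
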