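import Groth.Agent.KSix.K241.BifT
import Groth.Agent.KSix.K241.RingCore
import Groth.Agent.KSix.K241.StalkPt
import Groth.Agent.Dcoh.MapDer

/-!
# Comparison of the complexes `T(N, M^•)` under functors

* `arrow_tc_compare`: an exact functor `H` with `H(T(M, N)) ≅ T'(G₁ M, G₂ N)` carries `H^i(T(f, M))` to
  `H^i(T'(G₁ f, G₂ M))`;
* `d_stalk_eq_zero`: the test with a morphism of `O_X`-modules whose stalk at `x` is `𝔪 ⟶ O_{X,x}`.
-/

set_option autoImplicit false

universe u v₁ v₂ v₃ v₁' v₂' v₃' u₁ u₂ u₃ u₁' u₂' u₃'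

open CategoryTheory CategoryTheory.Limits HomologicalComplex AlgebraicGeometry
open Groth.Agent.PerfB Groth.Agent.Dcoh Groth.Agent.Dcoh.Stalk

namespace K241.TcMap

section Abs

variable {C₁ : Type u₁} {C₂ : Type u₂} {D : Type u₃} [Category.{v₁} C₁] [Category.{v₂} C₂]
  [Category.{v₃} D] [Abelian C₂] [Abelian D]
  {C₁' : Type u₁'} {C₂' : Type u₂'} {D' : Type u₃'} [Category.{v₁'} C₁'] [Category.{v₂'} C₂']
  [Category.{v₃'} D'] [Abelian C₂'] [Abelian D']
  (T : C₁ ⥤ C₂ ⥤ D) (T' : C₁' ⥤ C₂' ⥤ D') (G₁ : C₁ ⥤ C₁') (G₂ : C₂ ⥤ C₂') (H : D ⥤ D')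
  [∀ X₁, (T.obj X₁).Additive] [∀ X₁, (T'.obj X₁).Additive]

lemma arrow_tc_congr {N₁ N₁' N₂ N₂' : C₁} (f : N₁ ⟶ N₁') (g : N₂ ⟶ N₂') (e : Arrow.mk f ≅ Arrow.mk g)
    (M : CochainComplex C₂ ℤ) (i : ℤ) :
    Nonempty (Arrow.mk (homologyMap (BifT.tcMap T f M) i) ≅
      Arrow.mk (homologyMap (BifT.tcMap T g M) i)) := by
  let F : C₁ ⥤ D :=
    { obj N := (BifT.tc T N M).homology i
      map f := homologyMap (BifT.tcMap T f M) i
      map_id N := by
        have : BifT.tcMap T (𝟙 N) M = 𝟙 _ := by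
          ext n
          change (T.map (𝟙 N)).app (M.X n) = 𝟙 _
          simp
        rw [this, homologyMap_id]
      map_comp f g := by
        have : BifT.tcMap T (f ≫ g) M = BifT.tcMap T f M ≫ BifT.tcMap T g M := by
          ext n
          change (T.map (f ≫ g)).app (M.X n) = (T.map f).app (M.X n) ≫ (T.map g).app (M.X n)
          simp
        rw [this, homologyMap_comp] }
  exact ⟨F.mapArrow.mapIso e⟩

variable {T T' G₁ G₂ H}

/-- `H(T(N, M^•)) ≅ T'(G₁ N, G₂ M^•)`. -/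
noncomputable def tcIso (c : BifCompare.Data T T' G₁ G₂ H) [H.Additive] [G₂.Additive]
    (N : C₁) (M : CochainComplex C₂ ℤ) :
    (H.mapHomologicalComplex (ComplexShape.up ℤ)).obj (BifT.tc T N M) ≅
      BifT.tc T' (G₁.obj N) ((G₂.mapHomologicalComplex (ComplexShape.up ℤ)).obj M) :=
  Hom.isoOfComponents (fun i => c.e N (M.X i)) (fun i j _ => (c.nat₂ N (M.d i j)).symm)

/-- An exact functor `H` with `H(T(M, N)) ≅ T'(G₁ M, G₂ N)` carries `H^i(T(f, M))` to
`H^i(T'(G₁ f, G₂ M))`. -/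
theorem arrow_tc_compare (c : BifCompare.Data T T' G₁ G₂ H) [H.Additive] [PreservesFiniteLimits H]
    [PreservesFiniteColimits H] [G₂.Additive] {N N' : C₁} (f : N ⟶ N') (M : CochainComplex C₂ ℤ)
    (i : ℤ) :
    Nonempty (Arrow.mk (H.map (homologyMap (BifT.tcMap T f M) i)) ≅
      Arrow.mk (homologyMap (BifT.tcMap T' (G₁.map f)
        ((G₂.mapHomologicalComplex (ComplexShape.up ℤ)).obj M)) i)) := by
  obtain ⟨e⟩ := BifT.arrow_of_sq
    (homologyMap ((H.mapHomologicalComplex (ComplexShape.up ℤ)).map (BifT.tcMap T f M)) i)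
    (H.map (homologyMap (BifT.tcMap T f M) i))
    ((MapDer.homologyMapCx H i).hom.app _) ((MapDer.homologyMapCx H i).hom.app _)
    (NatIso.hom_app_isIso _ _) (NatIso.hom_app_isIso _ _)
    ((MapDer.homologyMapCx H i).hom.naturality (BifT.tcMap T f M))
  have w : (H.mapHomologicalComplex (ComplexShape.up ℤ)).map (BifT.tcMap T f M) ≫
      (tcIso c N' M).hom = (tcIso c N M).hom ≫ BifT.tcMap T' (G₁.map f)
        ((G₂.mapHomologicalComplex (ComplexShape.up ℤ)).obj M) := by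
    ext n
    exact c.nat₁ f (M.X n)
  obtain ⟨e'⟩ := BifT.arrow_of_sq
    (homologyMap ((H.mapHomologicalComplex (ComplexShape.up ℤ)).map (BifT.tcMap T f M)) i)
    (homologyMap (BifT.tcMap T' (G₁.map f)
        ((G₂.mapHomologicalComplex (ComplexShape.up ℤ)).obj M)) i)
    (homologyMap (tcIso c N M).hom i) (homologyMap (tcIso c N' M).hom i)
    inferInstance inferInstance (by rw [← homologyMap_comp, ← homologyMap_comp, w])
  exact ⟨e.symm ≪≫ e'⟩

end Abs

section Sch

open Groth.Agent.PerfB.StalkKFlat Groth.Agent.PerfB.RingKFlat Groth.Agent.PerfB.MinModel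

variable {X : Scheme.{u}}

/-- The test with a morphism of `O_X`-modules whose stalk at `x` is `𝔪 ⟶ O_{X,x}`. -/
theorem d_stalk_eq_zero {U : Scheme.{u}} (j : U ⟶ X) [IsOpenImmersion j] {x : X}
    (hx : x ∈ Set.range j) (M : CochainComplex X.Modules ℤ) (n : ℤ → ℕ) (hmin : MinimalAt x M)
    (hM : ∀ i, Nonempty ((M.X i).restrict j ≅ FlatMod.freeMod U (n i))) {N N' : X.Modules}
    (f : N ⟶ N') (e : Arrow.mk ((stalkF x).map f) ≅
      Arrow.mk (RingCore.incl (IsLocalRing.maximalIdeal (X.presheaf.stalk x)))) (i : ℤ)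
    (h : Mono ((stalkF x).map (homologyMap (BifT.tcMap (DCoh.tensorBi (X := X)) f M) i))) :
    (stalkF x).map (M.d (i - 1) i) = 0 := by
  obtain ⟨e1⟩ := arrow_tc_compare (stalkData x) f M i
  obtain ⟨e2⟩ := arrow_tc_congr (TR (X.presheaf.stalk x)) _ _ e
    (((stalkF x).mapHomologicalComplex (ComplexShape.up ℤ)).obj M) i
  have h1 := ((MorphismProperty.monomorphisms _).arrow_mk_iso_iff (e1 ≪≫ e2)).1 h
  have hfree : ∀ i, Module.Free (X.presheaf.stalk x) ((stalkF x).obj (M.X i)) := fun i =>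
    StalkPt.free_stalkF j (hM i) hx
  have hfin : ∀ i, Module.Finite (X.presheaf.stalk x) ((stalkF x).obj (M.X i)) := fun i =>
    StalkPt.finite_stalkF j (hM i) hx
  have h3 : Module.Flat (X.presheaf.stalk x)
      ((((stalkF x).mapHomologicalComplex (ComplexShape.up ℤ)).obj M).X (i + 1)) := by
    have := hfree (i + 1)
    exact inferInstanceAs (Module.Flat (X.presheaf.stalk x) ((stalkF x).obj (M.X (i + 1))))
  have h4 : Module.Finite (X.presheaf.stalk x)
      ((((stalkF x).mapHomologicalComplex (ComplexShape.up ℤ)).obj M).X (i - 1)) := hfin (i - 1)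
  have h5 : ∀ k, i - 1 + 1 = k →
      (Scheme.Modules.pullback (X.fromSpecResidueField x)).map (M.d (i - 1) k) = 0 := by
    rintro k rfl
    exact hmin (i - 1)
  exact RingCore.d_eq_zero_of_mono
    (((stalkF x).mapHomologicalComplex (ComplexShape.up ℤ)).obj M) i
    (fun y => StalkPt.stalkF_map_mem (M.d (i - 1) i) x (h5 i (by omega)) (hfree i) y) h1

end Sch

end K241.TcMap
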