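import Groth.Agent.KSix.K241.SchBif
import Groth.Agent.KSix.K241.Model
import Groth.Agent.KSix.K241.TcMap

/-!
# Left exactness of `N ↦ H^i(N ⊗ᴸ F)` and minimal approximations

* `d_stalk_eq_zero_of_mono_T`: if `H^i(f ⊗ᴸ F)` is mono for some `f` whose stalk at `x` is `𝔪 ⟶ O_{X,x}`, the stalk at
  `x` of the differential `M^{i-1} ⟶ M^i` of a minimal approximation `M` of `F` is zero;
* `preservesFiniteLimits_of_d_eq_zero`: conversely if this differential is zero near `x` the functor is left exact
  near `x`.
-/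

set_option autoImplicit false
universe u
open CategoryTheory CategoryTheory.Limits HomologicalComplex AlgebraicGeometry
attribute [local instance] HasDerivedCategory.standard

open DCoh Groth.Agent.PerfC.DTens Groth.Agent.PerfC.DBif Groth.Agent.PerfC.DInd
open Groth.Agent.Dcoh Groth.Agent.Dcoh.Stalk Groth.Agent.PerfC.LTXRestr
open Groth.Agent.PerfB.MinModel Groth.Agent.CycB.StalkExact

namespace K241.PointTest

variable {X : Scheme.{u}}

lemma isIso_stalkF_iff {M N : X.Modules} (φ : M ⟶ N) (x : X) :
    IsIso ((stalkF x).map φ) ↔ Function.Bijective (stalkLin φ x) := by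
  rw [ConcreteCategory.isIso_iff_bijective]
  have e : ((stalkF x).map φ).hom = stalkLin φ x := LinearMap.ext (StalkPt.stalkF_map_lin φ x)
  constructor
  · intro h
    rw [← e]
    exact h
  · intro h
    rw [← e] at h
    exact h

/-- If a morphism is an isomorphism over an open subscheme, so are its stalks. -/
lemma isIso_stalkF_of_restrict {U : Scheme.{u}} (j : U ⟶ X) [IsOpenImmersion j] {M N : X.Modules}
    (φ : M ⟶ N) (h : IsIso ((Scheme.Modules.restrictFunctor j).map φ)) {x : X}
    (hx : x ∈ Set.range j) : IsIso ((stalkF x).map φ) := by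
  obtain ⟨y, rfl⟩ := hx
  rw [isIso_stalkF_iff]
  have h1 : Function.Bijective (stalkLin ((Scheme.Modules.restrictFunctor j).map φ) y) := by
    rw [← isIso_stalkF_iff]
    infer_instance
  have h2 : ⇑(stalkLin φ (j y)) = StalkRestrict.ρ j N y ∘
      stalkLin ((Scheme.Modules.restrictFunctor j).map φ) y ∘ (StalkRestrict.ρ j M y).symm := by
    ext m
    simp only [Function.comp_apply]
    rw [StalkRestrict.ρ_naturality, AddEquiv.apply_symm_apply]
  rw [h2]
  exact (StalkRestrict.ρ j N y).bijective.comp (h1.comp (StalkRestrict.ρ j M y).symm.bijective)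

/-- Bounded above complexes of flat modules are K-flat. -/
theorem isKFlat_of_flat {M : CochainComplex X.Modules ℤ} {a b : ℤ}
    (hflat : ∀ i, FlatMod.IsFlat (M.X i)) (hb : ∀ i, i < a ∨ b < i → IsZero (M.X i)) :
    DCoh.IsKFlat M := by
  have : M.IsStrictlyLE b := by
    rw [CochainComplex.isStrictlyLE_iff]
    exact fun i hi => hb i (Or.inr hi)
  exact Groth.Agent.S0953.result M b this hflat

/-- The test at a point. -/
theorem d_stalk_eq_zero_of_mono_T {F M : CochainComplex X.Modules ℤ} [DCoh.HasLTensorCx F]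
    (hKM : DCoh.IsKFlat M) (α : DerivedCategory.Q.obj M ⟶ DerivedCategory.Q.obj F) (m : ℤ)
    {U : Scheme.{u}} (j : U ⟶ X) [IsOpenImmersion j] {x : X} (hx : x ∈ Set.range j)
    (h1 : ∀ i : ℤ, m < i → IsIso ((DerivedCategory.homologyFunctor _ i).map
      ((Groth.Agent.PerfA.Restrict.restrictD j).map α)))
    (h2 : Epi ((DerivedCategory.homologyFunctor _ m).map
      ((Groth.Agent.PerfA.Restrict.restrictD j).map α))) (n : ℤ → ℕ) (hmin : MinimalAt x M)
    (hM : ∀ i, Nonempty ((M.X i).restrict j ≅ FlatMod.freeMod U (n i))) (i : ℤ) (hi : m < i)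
    {N N' : X.Modules} (f : N ⟶ N') (e : Arrow.mk ((stalkF x).map f) ≅
      Arrow.mk (RingCore.incl (IsLocalRing.maximalIdeal (X.presheaf.stalk x))))
    (hT : Mono ((ExactT.T (DCoh.LTensorCx F) i).map f)) :
    (stalkF x).map (M.d (i - 1) i) = 0 := by
  refine TcMap.d_stalk_eq_zero j hx M n hmin hM f e i ?_
  have := presQis_flip_obj hKM
  obtain ⟨e1⟩ := BifT.arrow_hmap (bifData X) f M i
  obtain ⟨e2⟩ := BifT.arrow_tc (tensorBi (X := X)) tensorCx_eq f M i
  have e3 := (stalkF x).mapArrow.mapIso (e1 ≪≫ e2)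
  refine ((MorphismProperty.monomorphisms _).arrow_mk_iso_iff e3).1 ?_
  change Mono ((stalkF x).map (BifT.hmap (bifData X) f (DerivedCategory.Q.obj M) i))
  have h3 : Mono (BifT.hmap (bifData X) f (DerivedCategory.Q.obj F) i) :=
    (BifT.mono_LTobj_iff (bifData X) f F i).1 hT
  have h4 : ∀ N : X.Modules, IsIso ((stalkF x).map ((DerivedCategory.homologyFunctor _ i).map
      (((LTX X).obj ((DerivedCategory.singleFunctor X.Modules 0).obj N)).map α))) := fun N =>
    isIso_stalkF_of_restrict j _ (SchBif.isIso_restrict_homology_map j α m h1 h2 _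
      (SchBif.isLE_single N) i hi) hx
  refine (@BifT.mono_iff_of_sq _ _ _ _ _ _
    ((stalkF x).map (BifT.hmap (bifData X) f (DerivedCategory.Q.obj M) i))
    ((stalkF x).map (BifT.hmap (bifData X) f (DerivedCategory.Q.obj F) i))
    ((stalkF x).map ((DerivedCategory.homologyFunctor _ i).map
      (((LTX X).obj ((DerivedCategory.singleFunctor X.Modules 0).obj N)).map α)))
    ((stalkF x).map ((DerivedCategory.homologyFunctor _ i).map
      (((LTX X).obj ((DerivedCategory.singleFunctor X.Modules 0).obj N')).map α)))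
    (h4 N) (h4 N') ?_).2 inferInstance
  rw [← Functor.map_comp, ← Functor.map_comp, ← Functor.map_comp, ← Functor.map_comp]
  exact congrArg _ (congrArg _ (((LTX X).map
    ((DerivedCategory.singleFunctor X.Modules 0).map f)).naturality α).symm)

end K241.PointTest
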