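import Groth.Agent.KSix.K241.BifT
import Groth.Agent.LoccohB.LTen
import Groth.Agent.PerfB.RingKFlat

/-!
# The derived tensor product of complexes of modules over a ring as a derived bifunctor

* `bifData R : BifData (GR R) IsKProjective`;
* `ltIso E : LTobj (GR R) E ≅ DRing.LTensorCx R E`;
* `mono_T_ltensor_iff`: the map `H^i(f ⊗ᴸ E)` is computed by a complex `M` with a map `Q M ⟶ Q E` which is an
  isomorphism in degrees `> m`.
-/

set_option autoImplicit false
universe u
open CategoryTheory CategoryTheory.Limits MonoidalCategory HomologicalComplex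
attribute [local instance] HasDerivedCategory.standard

open Groth.Agent.PerfB.RingKFlat Groth.Agent.PerfC.DBif Groth.Agent.PerfC.DInd Groth.Agent.LoccohB.LTen

namespace K241.RingBif

variable {R : Type u} [CommRing R]

variable (R) in
/-- The tensor product of complexes. -/
noncomputable def GR : DRing.Cx R ⥤ DRing.Cx R ⥤ DRing.Cx R := (TR R).map₂CochainComplex

lemma GR_eq : GR R = (TR R).map₂CochainComplex := rfl

lemma quasiIso_obj (L : DRing.Cx R) [L.IsKProjective] {E E' : DRing.Cx R} (u : E ⟶ E')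
    (hu : QuasiIso u) : QuasiIso (((GR R).obj L).map u) :=
  quasiIso_whiskerLeft L u

lemma quasiIso_map {L L' : DRing.Cx R} [L.IsKProjective] [L'.IsKProjective] (w : L ⟶ L')
    (hw : QuasiIso w) (E : DRing.Cx R) : QuasiIso (((GR R).map w).app E) :=
  quasiIso_whiskerRight_of_isKProjective w E

instance presQis_flip (E : DRing.Cx R) [E.IsKProjective] : PresQis ((GR R).flip.obj E) where
  quasiIso_map f _ := quasiIso_whiskerRight E f

variable (R) in
theorem bifData : BifData (GR R) (fun K : DRing.Cx R => K.IsKProjective) where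
  htpy_flip E := Groth.Agent.PerfC.DBifBi.htpy_flip_obj (TR R) GR_eq E
  exists_res K := by
    obtain ⟨P, p, h1, h2, -⟩ := Groth.Agent.LoccohB.KProj.exists_kprojective K
    exact ⟨P, p, h1, h2⟩
  quasiIso_obj L hL _ _ u hu := by
    have : L.IsKProjective := hL
    exact quasiIso_obj L u hu
  quasiIso_map {L L'} w hL hL' hw E := by
    have : L.IsKProjective := hL
    have : L'.IsKProjective := hL'
    exact quasiIso_map w hw E

instance hasLT : HasLT (GR R) := (bifData R).hasLT

/-- Comparison with the frozen derived tensor product. -/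
noncomputable def ltIso (E : DRing.Cx R) [DRing.HasLTensorCx R E] :
    LTobj (GR R) E ≅ DRing.LTensorCx R E := Iso.refl _

/-- The derived tensor product is right t-exact. -/
theorem isLE_lt (N : ModuleCat.{u} R) (c : ℤ) (Y : DerivedCategory (ModuleCat.{u} R))
    (hY : Y.IsLE c) : (((LT (bifData R)).obj
      ((DerivedCategory.singleFunctor (ModuleCat.{u} R) 0).obj N)).obj Y).IsLE c := by
  obtain ⟨K, hK, ⟨e⟩⟩ := Y.exists_iso_Q_obj_of_isLE c
  obtain ⟨F, p, hF, hF', -, hp⟩ := Groth.Agent.Dcoh.LeftRes.exists_resolution_of_isStrictlyLE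
    (goodClass_projective R) K c
  have hF2 : F.IsKProjective := CochainComplex.isKProjective_of_projective F c
  have h1 := isIso_κ' (bifData R) ((single (ModuleCat.{u} R) (ComplexShape.up ℤ) 0).obj N) F
  have h2 : CochainComplex.IsStrictlyLE ((single (ModuleCat.{u} R) (ComplexShape.up ℤ) 0).obj N) 0 :=
    inferInstance
  have h3 : (((GR R).obj ((single (ModuleCat.{u} R) (ComplexShape.up ℤ) 0).obj N)).obj F).IsStrictlyLE
      (0 + c) := Groth.Agent.PerfC.LTBound.isStrictlyLE_map₂ (TR R) _ F 0 c
  rw [zero_add] at h3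
  have h4 : (DerivedCategory.Q.obj (((GR R).obj
      ((single (ModuleCat.{u} R) (ComplexShape.up ℤ) 0).obj N)).obj F)).IsLE c :=
    (DerivedCategory.isLE_Q_obj_iff _ _).2 inferInstance
  have h5 : IsIso (DerivedCategory.Q.map p) := inferInstance
  let e1 : DerivedCategory.Q.obj F ≅ Y := asIso (DerivedCategory.Q.map p) ≪≫ e.symm
  exact ⟨DerivedCategory.TStructure.t.isLE_of_iso ((asIso (κ (bifData R)
    ((single (ModuleCat.{u} R) (ComplexShape.up ℤ) 0).obj N) F)).symm ≪≫
      ((LT (bifData R)).obj _).mapIso e1) c |>.le⟩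

/-- `H^i(f ⊗ᴸ E)` is computed by a complex which approximates `E`. -/
theorem mono_T_iff {E M : DRing.Cx R} [DRing.HasLTensorCx R E] [M.IsKProjective]
    (α : DerivedCategory.Q.obj M ⟶ DerivedCategory.Q.obj E) (m : ℤ)
    (h1 : ∀ i : ℤ, m < i → IsIso ((DerivedCategory.homologyFunctor _ i).map α))
    (h2 : Epi ((DerivedCategory.homologyFunctor _ m).map α)) (i : ℤ) (hi : m < i)
    {N N' : ModuleCat.{u} R} (f : N ⟶ N') :
    Mono ((DerivedCategory.singleFunctor (ModuleCat.{u} R) 0 ⋙ DRing.LTensorCx R E ⋙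
      DerivedCategory.homologyFunctor (ModuleCat.{u} R) i).map f) ↔
      Mono (homologyMap (BifT.tcMap (TR R) f M) i) :=
  BifT.mono_T_iff (TR R) (bifData R) GR_eq isLE_lt α m h1 h2 i hi f

theorem isTriang (E : DRing.Cx R) [DRing.HasLTensorCx R E] :
    Groth.Agent.PerfC.IsoLocus.IsTriang (DRing.LTensorCx R E) := by
  have h := Groth.Agent.PerfC.DBifBi.isTriang_LTf_obj (TR R) GR_eq (bifData R) (fun E => by
    obtain ⟨P, p, h1, h2, -⟩ := Groth.Agent.LoccohB.KProj.exists_kprojective E
    exact ⟨P, p, inferInstance, h2⟩) (DerivedCategory.Q.obj E)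
  exact h.of_iso (LTflip (bifData R) E)

end K241.RingBif
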