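import Groth.Agent.KSix.K241.BifT
import Groth.Agent.PerfC.LTXRestr
import Groth.Agent.PerfC.LTBound

/-!
# The functors `N ↦ H^i(N ⊗ᴸ E)` on `O_X`-modules

* `isLE_LTX`: the derived tensor product is right t-exact;
* `isTriang`, `mono_T_iff`: `H^i(f ⊗ᴸ E)` is computed by a K-flat complex `M` with a map `Q M ⟶ Q E` which is an
  isomorphism in degrees `> m` and an epimorphism in degree `m`;
* `isIso_restrict_homology_map`: `H^i(A ⊗ᴸ α)` is an isomorphism over an open subscheme if `α` is an isomorphism in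
  degrees `> m` and an epimorphism in degree `m` over it.
-/

set_option autoImplicit false
universe u
open CategoryTheory CategoryTheory.Limits HomologicalComplex AlgebraicGeometry
attribute [local instance] HasDerivedCategory.standard

open DCoh Groth.Agent.PerfC.DTens Groth.Agent.PerfC.DBif Groth.Agent.PerfC.DInd
open Groth.Agent.Dcoh Groth.Agent.PerfC.LTXRestr

namespace K241.SchBif

variable {X : Scheme.{u}}

/-- The derived tensor product is right t-exact. -/
theorem isLE_LTX (A Y : DCoh.D X) (a c : ℤ) (hA : A.IsLE a) (hY : Y.IsLE c) :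
    (((LTX X).obj A).obj Y).IsLE (a + c) := by
  obtain ⟨K, hK, ⟨e⟩⟩ := Y.exists_iso_Q_obj_of_isLE c
  have h1 : (DCoh.toD X K).IsLE c := (DerivedCategory.isLE_Q_obj_iff _ _).2 inferInstance
  have h2 := hasLTensorCx K
  have h3 : ((DCoh.LTensorCx K).obj A).IsLE (a + c) :=
    Groth.Agent.PerfC.LTBound.isLE_LTensorCx (bifData X) K c A a
  exact ⟨DerivedCategory.TStructure.t.isLE_of_iso (((LTX X).obj A).mapIso e ≪≫
    LTXcxObj A K).symm (a + c) |>.le⟩

theorem isLE_single (N : X.Modules) :
    DerivedCategory.IsLE ((DerivedCategory.singleFunctor X.Modules 0).obj N) 0 := inferInstance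

theorem isTriang (E : CochainComplex X.Modules ℤ) [DCoh.HasLTensorCx E] :
    Groth.Agent.PerfC.IsoLocus.IsTriang (DCoh.LTensorCx E) := isTriang_LTensorCx E

/-- `H^i(f ⊗ᴸ E)` is computed by a complex which approximates `E`. -/
theorem mono_T_iff {E M : CochainComplex X.Modules ℤ} [DCoh.HasLTensorCx E] (hM : DCoh.IsKFlat M)
    (α : DerivedCategory.Q.obj M ⟶ DerivedCategory.Q.obj E) (m : ℤ)
    (h1 : ∀ i : ℤ, m < i → IsIso ((DerivedCategory.homologyFunctor _ i).map α))
    (h2 : Epi ((DerivedCategory.homologyFunctor _ m).map α)) (i : ℤ) (hi : m < i)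
    {N N' : X.Modules} (f : N ⟶ N') :
    Mono ((ExactT.T (DCoh.LTensorCx E) i).map f) ↔
      Mono (homologyMap (BifT.tcMap (tensorBi (X := X)) f M) i) :=
  haveI := presQis_flip_obj hM
  BifT.mono_T_iff (tensorBi (X := X)) (bifData X) tensorCx_eq (fun N c Y hY => by
    have := isLE_LTX _ Y 0 c (isLE_single N) hY
    rwa [zero_add] at this) α m h1 h2 i hi f

/-- `H^i(f ⊗ᴸ M)` for `M` K-flat. -/
theorem mono_T_kflat_iff {M : CochainComplex X.Modules ℤ} (hM : DCoh.IsKFlat M) (i : ℤ)
    {N N' : X.Modules} (f : N ⟶ N') :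
    Mono (BifT.hmap (bifData X) f (DerivedCategory.Q.obj M) i) ↔
      Mono (homologyMap (BifT.tcMap (tensorBi (X := X)) f M) i) := by
  have := presQis_flip_obj hM
  rw [BifT.mono_hmap_Q_iff, BifT.mono_tc_iff (tensorBi (X := X)) tensorCx_eq]

/-- `H^i(A ⊗ᴸ α)` over an open subscheme. -/
theorem isIso_restrict_homology_map {U : Scheme.{u}} (j : U ⟶ X) [IsOpenImmersion j] {K L : DCoh.D X}
    (α : K ⟶ L) (m : ℤ)
    (h1 : ∀ i : ℤ, m < i → IsIso ((DerivedCategory.homologyFunctor _ i).map ((restrictD j).map α)))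
    (h2 : Epi ((DerivedCategory.homologyFunctor _ m).map ((restrictD j).map α)))
    (A : DCoh.D X) (hA : A.IsLE 0) (i : ℤ) (hi : m < i) :
    IsIso ((Scheme.Modules.restrictFunctor j).map
      ((DerivedCategory.homologyFunctor _ i).map (((LTX X).obj A).map α))) := by
  rw [← MapDer.isIso_homology_map_iff]
  have hA' : ((restrictD j).obj A).IsLE 0 := MapDer.isLE_map (Scheme.Modules.restrictFunctor j) 0 A
  have h3 := (BifT.isIso_homology_map (isTriang_LTX_obj ((restrictD j).obj A)) ((restrictD j).map α)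
    m h1 h2 (fun C hC => by
      have := isLE_LTX _ C 0 (m - 1) hA' hC
      rwa [zero_add] at this)).1 i hi
  have h4 := NatIso.isIso_map_iff (Functor.isoWhiskerRight (restrTensRight j A)
    (DerivedCategory.homologyFunctor U.Modules i)) α
  exact h4.2 h3

end K241.SchBif
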