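import Groth.Agent.KSix.K242.SiteBif
import Groth.Agent.S9058
import Groth.Agent.S9084
import Groth.Agent.S9085

/-!
# Terms of the tensor product of two complexes of flat modules on a ringed site
-/

set_option autoImplicit false

universe u

open CategoryTheory CategoryTheory.Limits

attribute [local instance] HasDerivedCategory.standard

namespace K241.SiteFlat

open ModSite

variable {C : Type u} [SmallCategory C] {J : GrothendieckTopology C} {O : Sheaf J CommRingCat.{u}}

/-- Coproducts of flat modules indexed by a type in an arbitrary smaller universe. -/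
theorem isFlat_of_isColimit_cofan₀ {ι : Type} (F : ι → Mod O) (hF : ∀ i, IsFlat (F i)) (c : Cofan F)
    (hc : IsColimit c) : IsFlat c.pt := by
  let F' : ULift.{u} ι → Mod O := fun j => F j.down
  let c' : Cofan F' := Cofan.mk c.pt (fun j => c.inj j.down)
  have hc' : IsColimit c' := Cofan.IsColimit.mk c'
    (fun s => Cofan.IsColimit.desc hc (fun j => s.inj ⟨j⟩))
    (fun s j => by simp [c'])
    (fun s m h => Cofan.IsColimit.hom_ext hc _ _ (fun j => by
      simpa [c'] using h ⟨j⟩))
  exact Groth.Agent.S9084.result O F' (fun j => hF j.down) c' hc'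

variable (P F : CochainComplex (Mod O) ℤ)

theorem isFlat_tensorCx_X (hP : ∀ i : ℤ, IsFlat (P.X i)) (hF : ∀ i : ℤ, IsFlat (F.X i)) (n : ℤ) :
    IsFlat ((((tensorCx O).obj P).obj F).X n) := by
  exact isFlat_of_isColimit_cofan₀ _
    (fun (j : (ComplexShape.π (ComplexShape.up ℤ) (ComplexShape.up ℤ) (ComplexShape.up ℤ)) ⁻¹' {n}) =>
      Groth.Agent.S9085.result O (P.X j.1.1) (F.X j.1.2) (hP _) (hF _)) _
    (coproductIsCoproduct _)

theorem isZero_tensorCx_X (n : ℤ) (h : ∀ p q : ℤ, p + q = n → IsZero (P.X p) ∨ IsZero (F.X q)) :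
    IsZero ((((tensorCx O).obj P).obj F).X n) := by
  rw [IsZero.iff_id_eq_zero]
  apply HomologicalComplex.mapBifunctor.hom_ext
  intro p q hpq
  have hz : IsZero (((tensorBi O).obj (P.X p)).obj (F.X q)) := by
    rcases h p q hpq with h | h
    · exact ((tensorBi O).flip.obj (F.X q)).map_isZero h
    · exact ((tensorBi O).obj (P.X p)).map_isZero h
  exact hz.eq_of_src _ _

end K241.SiteFlat
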