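import Groth.Agent.KSix.K241.StalkSide

/-!
# From the stalk to a neighbourhood

`exists_nhd_leftExact`: if `N ↦ H^i(N ⊗ᴸ F_x)` is left exact and `F` is `m`-pseudo-coherent with `m < i`, then
`N ↦ H^i(N ⊗ᴸ F|_U)` is left exact for some open neighbourhood `U` of `x`.
-/

set_option autoImplicit false
universe u
open CategoryTheory CategoryTheory.Limits HomologicalComplex AlgebraicGeometry
attribute [local instance] HasDerivedCategory.standard

open DCoh

namespace K241.StalkOpen

theorem exists_nhd_leftExact {X : Scheme.{u}} (F : CochainComplex X.Modules ℤ) (m i : ℤ)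
    (hi : m < i) (hE : DCoh.IsPseudoCoherentD m (DCoh.toD X F)) (x : X)
    [DRing.HasLTensorCx (X.presheaf.stalk x)
      (((DerSch.stalkFunctor X x).mapHomologicalComplex (ComplexShape.up ℤ)).obj F)]
    (h : PreservesFiniteLimits (DerivedCategory.singleFunctor (ModuleCat.{u} (X.presheaf.stalk x)) 0 ⋙
      DRing.LTensorCx (X.presheaf.stalk x)
        (((DerSch.stalkFunctor X x).mapHomologicalComplex (ComplexShape.up ℤ)).obj F) ⋙
      DerivedCategory.homologyFunctor (ModuleCat.{u} (X.presheaf.stalk x)) i))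
    [∀ U : X.Opens, DCoh.HasLTensorCx ((DCoh.restrictCx U).obj F)] :
    ∃ U : X.Opens, x ∈ U ∧ PreservesFiniteLimits
      (DerivedCategory.singleFunctor (U : Scheme.{u}).Modules 0 ⋙
        DCoh.LTensorCx ((DCoh.restrictCx U).obj F) ⋙
        DerivedCategory.homologyFunctor (U : Scheme.{u}).Modules i) := by
  obtain ⟨U, j, hj, hx, M, n, a, b, α, hflat, hb, hmin, hM, hn, h1, h2⟩ :=
    Model.exists_model m (DCoh.toD X F) hE x
  have hinc : Mono (RingCore.incl (IsLocalRing.maximalIdeal (X.presheaf.stalk x))) := by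
    rw [ModuleCat.mono_iff_injective]
    exact Submodule.subtype_injective _
  have hd := StalkSide.d_stalk_eq_zero_of_mono j hx α m h1 h2 hb n hmin hM i hi inferInstance
  obtain ⟨W, hxW, hW, hdW⟩ := StalkPt.exists_opens_map_eq_zero j (hM (i - 1)) hx (M.d (i - 1) i) hd
  exact ⟨W, hxW, LeftExact.preservesFiniteLimits_of_d_eq_zero hflat hb α m j h1 h2 W hW i hi hdW⟩

end K241.StalkOpen
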