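import Groth.Agent.KSix.K241.LeftExact
import Groth.Agent.KSix.K241.RingBif
import Groth.Prelude.Def_DerSch

/-!
# The functors `N ↦ H^i(N ⊗ᴸ F_x)` over the local ring

`d_stalk_eq_zero_of_leftExact`: if `N ↦ H^i(N ⊗ᴸ F_x)` is left exact on `O_{X,x}`-modules, the stalk at `x` of the
differential `M^{i-1} ⟶ M^i` of a minimal approximation `M` of `F` near `x` is zero.
-/

set_option autoImplicit false
universe u
open CategoryTheory CategoryTheory.Limits HomologicalComplex AlgebraicGeometry
attribute [local instance] HasDerivedCategory.standard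

open DCoh Groth.Agent.PerfC.DTens Groth.Agent.Dcoh Groth.Agent.Dcoh.Stalk Groth.Agent.PerfB.RingKFlat
open Groth.Agent.PerfB.MinModel Groth.Agent.CycB.StalkExact

namespace K241.StalkSide

variable {X : Scheme.{u}}

/-- The frozen stalk functor is the library's one. -/
noncomputable def stalkFIso (x : X) : stalkF x ≅ DerSch.stalkFunctor X x :=
  NatIso.ofComponents (fun M => Iso.refl _) (fun {M N} φ => by
    ext m
    exact StalkPt.stalkF_map_lin φ x m)

lemma epi_stalkF_of_restrict {U : Scheme.{u}} (j : U ⟶ X) [IsOpenImmersion j] {M N : X.Modules}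
    (φ : M ⟶ N) (h : Epi ((Scheme.Modules.restrictFunctor j).map φ)) {x : X}
    (hx : x ∈ Set.range j) : Epi ((stalkF x).map φ) := by
  obtain ⟨y, rfl⟩ := hx
  have h1 : Function.Surjective (stalkLin ((Scheme.Modules.restrictFunctor j).map φ) y) :=
    stalkLin_surjective _ _
  rw [ModuleCat.epi_iff_surjective]
  intro t
  obtain ⟨s, hs⟩ := h1 ((StalkRestrict.ρ j N y).symm t)
  refine ⟨StalkRestrict.ρ j M y s, ?_⟩
  change ((stalkF (j y)).map φ).hom _ = t
  rw [StalkPt.stalkF_map_lin, ← StalkRestrict.ρ_naturality, hs, AddEquiv.apply_symm_apply]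

section

variable {F M : CochainComplex X.Modules ℤ} (x : X)

/-- The stalk of the approximation. -/
noncomputable def stalkα (α : DerivedCategory.Q.obj M ⟶ DerivedCategory.Q.obj F) :
    DerivedCategory.Q.obj (((stalkF x).mapHomologicalComplex (ComplexShape.up ℤ)).obj M) ⟶
      DerivedCategory.Q.obj (((DerSch.stalkFunctor X x).mapHomologicalComplex
        (ComplexShape.up ℤ)).obj F) :=
  ((stalkF x).mapDerivedCategoryFactors.app M).inv ≫ (stalkF x).mapDerivedCategory.map α ≫
    ((stalkF x).mapDerivedCategoryFactors.app F).hom ≫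
      DerivedCategory.Q.map ((NatIso.mapHomologicalComplex (stalkFIso x)
        (ComplexShape.up ℤ)).hom.app F)

variable {U : Scheme.{u}} (j : U ⟶ X) [IsOpenImmersion j] {x} (hx : x ∈ Set.range j)

include hx in
lemma isIso_stalkα (α : DerivedCategory.Q.obj M ⟶ DerivedCategory.Q.obj F) (i : ℤ)
    (h : IsIso ((DerivedCategory.homologyFunctor _ i).map ((DCoh.restrictD j).map α))) :
    IsIso ((DerivedCategory.homologyFunctor _ i).map (stalkα x α)) := by
  have h1 := (MapDer.isIso_homology_map_iff (Scheme.Modules.restrictFunctor j) α i).1 h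
  have h2 := (MapDer.isIso_homology_map_iff (stalkF x) α i).2
    (PointTest.isIso_stalkF_of_restrict j _ h1 hx)
  rw [stalkα, Functor.map_comp, Functor.map_comp, Functor.map_comp]
  infer_instance

include hx in
lemma epi_stalkα (α : DerivedCategory.Q.obj M ⟶ DerivedCategory.Q.obj F) (i : ℤ)
    (h : Epi ((DerivedCategory.homologyFunctor _ i).map ((DCoh.restrictD j).map α))) :
    Epi ((DerivedCategory.homologyFunctor _ i).map (stalkα x α)) := by
  have h1 := (MapDer.epi_homology_map_iff (Scheme.Modules.restrictFunctor j) α i).1 h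
  have h2 := (MapDer.epi_homology_map_iff (stalkF x) α i).2
    (epi_stalkF_of_restrict j _ h1 hx)
  rw [stalkα, Functor.map_comp, Functor.map_comp, Functor.map_comp]
  infer_instance

include hx in
/-- If `N ↦ H^i(N ⊗ᴸ F_x)` is left exact, the differential of a minimal approximation vanishes at `x`. -/
theorem d_stalk_eq_zero_of_mono (α : DerivedCategory.Q.obj M ⟶ DerivedCategory.Q.obj F) (m : ℤ)
    (h1 : ∀ i : ℤ, m < i → IsIso ((DerivedCategory.homologyFunctor _ i).map
      ((DCoh.restrictD j).map α)))
    (h2 : Epi ((DerivedCategory.homologyFunctor _ m).map ((DCoh.restrictD j).map α)))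
    {a b : ℤ} (hb : ∀ i, i < a ∨ b < i → IsZero (M.X i)) (n : ℤ → ℕ) (hmin : MinimalAt x M)
    (hM : ∀ i, Nonempty ((M.X i).restrict j ≅ FlatMod.freeMod U (n i))) (i : ℤ) (hi : m < i)
    [DRing.HasLTensorCx (X.presheaf.stalk x)
      (((DerSch.stalkFunctor X x).mapHomologicalComplex (ComplexShape.up ℤ)).obj F)]
    (h : Mono ((DerivedCategory.singleFunctor (ModuleCat.{u} (X.presheaf.stalk x)) 0 ⋙
      DRing.LTensorCx (X.presheaf.stalk x)
        (((DerSch.stalkFunctor X x).mapHomologicalComplex (ComplexShape.up ℤ)).obj F) ⋙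
      DerivedCategory.homologyFunctor (ModuleCat.{u} (X.presheaf.stalk x)) i).map
        (RingCore.incl (IsLocalRing.maximalIdeal (X.presheaf.stalk x))))) :
    (stalkF x).map (M.d (i - 1) i) = 0 := by
  have hfree : ∀ i, Module.Free (X.presheaf.stalk x) ((stalkF x).obj (M.X i)) := fun i =>
    StalkPt.free_stalkF j (hM i) hx
  have hfin : ∀ i, Module.Finite (X.presheaf.stalk x) ((stalkF x).obj (M.X i)) := fun i =>
    StalkPt.finite_stalkF j (hM i) hx
  let Mx : CochainComplex (ModuleCat.{u} (X.presheaf.stalk x)) ℤ :=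
    ((stalkF x).mapHomologicalComplex (ComplexShape.up ℤ)).obj M
  have hproj : ∀ i, Projective (Mx.X i) := fun i => by
    have := hfree i
    have h7 : Module.Projective (X.presheaf.stalk x) ((stalkF x).obj (M.X i)) := inferInstance
    exact (IsProjective.iff_projective (R := X.presheaf.stalk x)
      ((stalkF x).obj (M.X i))).1 h7
  have hLE : Mx.IsStrictlyLE b := by
    rw [CochainComplex.isStrictlyLE_iff]
    exact fun i hi => (stalkF x).map_isZero (hb i (Or.inr hi))
  have hKP : Mx.IsKProjective := CochainComplex.isKProjective_of_projective Mx b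
  rw [RingBif.mono_T_iff (M := Mx) (stalkα x α) m (fun i hi => isIso_stalkα j hx α i (h1 i hi))
    (epi_stalkα j hx α m h2) i hi] at h
  have h3 : Module.Flat (X.presheaf.stalk x) (Mx.X (i + 1)) := by
    have := hfree (i + 1)
    exact inferInstanceAs (Module.Flat (X.presheaf.stalk x) ((stalkF x).obj (M.X (i + 1))))
  have h4 : Module.Finite (X.presheaf.stalk x) (Mx.X (i - 1)) := hfin (i - 1)
  have h5 : ∀ k, i - 1 + 1 = k →
      (Scheme.Modules.pullback (X.fromSpecResidueField x)).map (M.d (i - 1) k) = 0 := by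
    rintro k rfl
    exact hmin (i - 1)
  exact RingCore.d_eq_zero_of_mono Mx i
    (fun y => StalkPt.stalkF_map_mem (M.d (i - 1) i) x (h5 i (by omega)) (hfree i) y) h

end

end K241.StalkSide
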